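import Cfsg.Agent.H441.GS.Opp

/-!
# Automorphisms of maximal displacement, action on a Levi subgroup of rank one (S4327, helper445)

`R : RGD cs h p T n X`, `a = conj (k b) β`, `β` a frame automorphism with trivial diagram part, `k` over `w`, `b ∈ B`,
the length of `w` maximal, `w α_i = α_i`, `w α_j < 0` for `j ≠ i`.

* `Frm.fix` : `a l ∈ l V⁻` for `l ∈ ⟨X α_i, X (-α_i)⟩`, `V⁻` the opposite radical;
* `Frm.equi` : `a` is equivariant on a normal subgroup of `P_i` centralised by `V`.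
-/

set_option autoImplicit false
set_option linter.unusedSectionVars false

namespace Cfsg.Agent.H445.Gs.Exc

open CoxeterSystem Cfsg.Agent.ChevalleyStructure.CoxeterGeom Cfsg.Agent.Tits.Roots Cfsg.Agent.Tits.Core
  Cfsg.Agent.Tits.Exchange Cfsg.Agent.Nodes.Reps Cfsg.Agent.Nodes.BNOf Cfsg.Agent.Nodes.StabComb
  Cfsg.Agent.Nodes.Bruhat Cfsg.Agent.Nodes.OppDec Cfsg.Agent.Nodes.LeviDec Cfsg.Agent.Nodes.NormalForm
  Cfsg.Agent.Nodes.Coroot Cfsg.Agent.Nodes.PosPair Cfsg.Agent.H441.GS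
open Cfsg.Agent.KFacts.RgdOpp Cfsg.Agent.KFacts.RgdAut Cfsg.Agent.KFacts.RgdDiag Cfsg.Agent.KFacts.RgdRigid
open scoped commutatorElement

variable {I W Y : Type*} [Fintype I] [DecidableEq I] [Group W] [Group Y] {M : CoxeterMatrix I}
  {cs : CoxeterSystem M W} {A : I → I → ℤ} {h : IsCartan M A} {p : ℕ} {T : Subgroup Y} {n : I → Y}
  {X : (I → ℤ) → Subgroup Y}

/-- the form of the automorphism `conj (k b) β` -/
structure Frm (R : RGD cs h p T n X) (β : MulAut Y) (k b : Y) (w : W) (i : I) : Prop where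
  D : Diag T X β 1
  hB : Fix β (RGD.B cs h T X)
  hk : Rp cs R.nsys w k
  hb : b ∈ RGD.B cs h T X
  hmax : ∀ (z : Y) (w' : W), Cell R.nsys cs h X w' (z * (k * b) * (β z)⁻¹) → cs.length w' ≤ cs.length w
  hi : rep cs h w (sr i) = sr i
  hj : ∀ j, j ≠ i → rep cs h w (sr j) ≤ 0

section

variable {R : RGD cs h p T n X} [Finite W] {β : MulAut Y} {k b : Y} {w : W} {i : I}

theorem conj_mem_of_norm {H : Subgroup Y} {g x : Y} (hg : g ∈ Subgroup.normalizer (H : Set Y)) (hx : x ∈ H) :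
    g * x * g⁻¹ ∈ H := (Subgroup.mem_normalizer_iff.1 hg x).1 hx

theorem conj_mem_of_norm' {H : Subgroup Y} {g x : Y} (hg : g ∈ Subgroup.normalizer (H : Set Y)) (hx : x ∈ H) :
    g⁻¹ * x * g ∈ H := by
  have := conj_mem_of_norm (inv_mem hg) hx
  rwa [inv_inv] at this

/-- the roots of `J = {i}` -/
theorem roots_single {x : I → ℤ} (hx : x ∈ RootsJ cs h {i}) : x = sr i ∨ x = -sr i := by
  rcases hx.1.pos_or_neg with h1 | h1
  · exact Or.inl (hx.1.eq_sr h1 i fun k hk => hx.2 k hk)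
  · right
    have h2 := hx.1.neg.eq_sr (neg_nonneg.2 h1) i fun k hk => by rw [Pi.neg_apply, hx.2 k hk, neg_zero]
    rw [← h2, neg_neg]

theorem hri (i : I) : sr i ∈ RootsJ cs h ({i} : Set I) :=
  PosJ_subset ({i} : Set I) (sr_mem_PosJ (J := ({i} : Set I)) (Set.mem_singleton i))

theorem hrn (i : I) : -sr i ∈ RootsJ cs h ({i} : Set I) := RootsJ.neg (hri i)

theorem LJ_le {H : Subgroup Y} (hT : T ≤ H) (h1 : X (sr i) ≤ H) (h2 : X (-sr i) ≤ H) : LJ cs h T X {i} ≤ H := by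
  refine sup_le hT (RGD.Sup_le fun x hx => ?_)
  rcases roots_single hx with rfl | rfl
  · exact h1
  · exact h2

variable (F : Frm R β k b w i)

include F

namespace Frm

theorem beta_root {r : I → ℤ} (hr : IsRoot cs h r) (x : Y) : β x ∈ X r ↔ x ∈ X r := by
  have h1 := Diag.root_comp R F.D (fun _ _ => rfl) hr x
  have h2 : r ∘ (1 : Equiv.Perm I).symm = r := rfl
  rwa [h2] at h1

theorem beta_LJ {l : Y} (hl : l ∈ LJ cs h T X {i}) : β l ∈ LJ cs h T X {i} := by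
  have h1 : LJ cs h T X {i} ≤ (LJ cs h T X {i}).comap β.toMonoidHom := by
    refine LJ_le (fun x hx => ?_) (fun x hx => ?_) (fun x hx => ?_)
    · exact T_le_LJ ((F.D.tor x).2 hx)
    · exact X_le_LJ (hri i) ((F.beta_root (isRoot_sr cs h i) x).2 hx)
    · exact X_le_LJ (hrn i) ((F.beta_root (isRoot_sr cs h i).neg x).2 hx)
  exact h1 hl

theorem rep_neg_sr : rep cs h w (-sr i) = -sr i := by rw [map_neg, F.hi]

theorem rep_inv_sr : rep cs h w⁻¹ (sr i) = sr i := by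
  have := rep_inv_apply cs h w (sr i)
  rwa [F.hi] at this

theorem k_LJ {l : Y} (hl : l ∈ LJ cs h T X {i}) : k * l * k⁻¹ ∈ LJ cs h T X {i} := by
  have h1 : LJ cs h T X {i} ≤ (LJ cs h T X {i}).comap (MulAut.conj k).toMonoidHom := by
    refine LJ_le (fun x hx => ?_) (fun x hx => ?_) (fun x hx => ?_)
    · exact T_le_LJ (conj_mem_of_norm F.hk.mem_normalizer hx)
    · refine X_le_LJ (hri i) ?_
      have := R.conj_mem F.hk (isRoot_sr cs h i) hx
      rwa [F.hi] at this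
    · refine X_le_LJ (hrn i) ?_
      have := R.conj_mem F.hk (isRoot_sr cs h i).neg hx
      rwa [F.rep_neg_sr] at this
  exact h1 hl

theorem rep_NotJ {x : I → ℤ} (hx : x ∈ NotJ cs h {i}) : -rep cs h w x ∈ NotJ cs h {i} := by
  obtain ⟨hr, h0, j, hj, hxj⟩ := hx
  have hji : j ≠ i := hj
  have H : ∀ i', rep cs h w (sr i') = sr i' ∨ rep cs h w (sr i') ≤ 0 := by
    intro i'
    by_cases h1 : i' = i
    · subst h1
      exact Or.inl F.hi
    · exact Or.inr (F.hj i' h1)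
  have hne : rep cs h w (sr j) ≠ sr j := by
    intro h1
    have h2 := F.hj j hji j
    rw [h1, sr_self] at h2
    exact absurd h2 (by norm_num)
  have h1 : rep cs h w x ≤ 0 := neg_of_supp H hr h0 hxj.ne' hne
  refine ⟨(hr.act w).neg, neg_nonneg.2 h1, ?_⟩
  by_contra hcon
  push Not at hcon
  have h2 : rep cs h w x ∈ RootsJ cs h {i} := by
    refine ⟨hr.act w, fun m hm => ?_⟩
    have h3 := hcon m hm
    have h4 := h1 m
    rw [Pi.neg_apply] at h3
    simp only [Pi.zero_apply] at h4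
    omega
  have h3 : x = sr i ∨ x = -sr i := by
    rcases roots_single h2 with h4 | h4
    · left
      have h5 := rep_inv_apply cs h w x
      rw [h4, F.rep_inv_sr] at h5
      exact h5.symm
    · right
      have h5 := rep_inv_apply cs h w x
      rw [h4, map_neg, F.rep_inv_sr] at h5
      exact h5.symm
  rcases h3 with rfl | rfl
  · rw [sr_ne hji] at hxj
    omega
  · rw [Pi.neg_apply, sr_ne hji] at hxj
    omega

theorem k_VJ {v : Y} (hv : v ∈ VJ cs h X {i}) : k * v * k⁻¹ ∈ VNJ cs h X {i} := by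
  have h1 : VJ cs h X {i} ≤ (VNJ cs h X {i}).comap (MulAut.conj k).toMonoidHom := by
    refine RGD.Sup_le fun x hx y hy => ?_
    exact RGD.le_Sup (S := NotNJ cs h {i}) (F.rep_NotJ hx) (R.conj_mem F.hk hx.1 hy)
  exact h1 hv

/-- `b = b_J v` -/
theorem exists_dec : ∃ bJ ∈ BJ cs h T X {i}, ∃ v ∈ VJ cs h X {i}, b = bJ * v := by
  obtain ⟨l, hl, v, hv, e⟩ := (mem_PJ R (J := {i})).1 (B_le_PJ F.hb)
  refine ⟨l, ?_, v, hv, e⟩
  rw [← B_inf_LJ R]
  refine Subgroup.mem_inf.2 ⟨?_, hl⟩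
  have : l = b * v⁻¹ := by rw [e]; group
  rw [this]
  exact mul_mem F.hb (inv_mem (VJ_le_B _ hv))

theorem mul_form {bJ v : Y} (hbJ : bJ ∈ BJ cs h T X {i}) (hv : v ∈ VJ cs h X {i}) (e : b = bJ * v) {l : Y}
    (hl : l ∈ LJ cs h T X {i}) :
    ∃ v₁ ∈ VJ cs h X {i}, (MulAut.conj (k * b) * β) l = (k * bJ * β l * (k * bJ)⁻¹) * (k * v₁ * k⁻¹) := by
  have h1 := LJ_le_normalizer_VJ R {i} (F.beta_LJ hl)
  have h2 := LJ_le_normalizer_VJ R {i} (BJ_le_LJ hbJ)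
  refine ⟨bJ * ((β l)⁻¹ * v * β l * v⁻¹) * bJ⁻¹, ?_, ?_⟩
  · have h3 : (β l)⁻¹ * v * β l * v⁻¹ ∈ VJ cs h X {i} := mul_mem (conj_mem_of_norm' h1 hv) (inv_mem hv)
    exact conj_mem_of_norm h2 h3
  · rw [MulAut.mul_apply, MulAut.conj_apply, e]
    group

/-- the Levi factor of `a l` differs from `l` by an element of `B_J` -/
theorem core_mem {bJ v : Y} (hbJ : bJ ∈ BJ cs h T X {i}) (hv : v ∈ VJ cs h X {i}) (e : b = bJ * v) {l : Y}
    (hl : l ∈ LJ cs h T X {i}) : l⁻¹ * (k * bJ * β l * (k * bJ)⁻¹) ∈ BJ cs h T X {i} := by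
  obtain ⟨v₁, hv₁, h1⟩ := F.mul_form hbJ hv e hl
  have hc : l⁻¹ * (k * bJ * β l * (k * bJ)⁻¹) ∈ LJ cs h T X {i} := by
    refine mul_mem (inv_mem hl) ?_
    have e1 : k * bJ * β l * (k * bJ)⁻¹ = k * (bJ * β l * bJ⁻¹) * k⁻¹ := by group
    rw [e1]
    exact F.k_LJ (mul_mem (mul_mem (BJ_le_LJ hbJ) (F.beta_LJ hl)) (inv_mem (BJ_le_LJ hbJ)))
  have e2 : l⁻¹ * (k * b) * (β l⁻¹)⁻¹ = (l⁻¹ * (k * bJ * β l * (k * bJ)⁻¹)) * (k * (v₁ * b)) := by
    rw [MulAut.mul_apply, MulAut.conj_apply] at h1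
    have e3 : l⁻¹ * (k * b) * (β l⁻¹)⁻¹ = l⁻¹ * (k * b * β l * (k * b)⁻¹) * (k * b) := by
      rw [map_inv, inv_inv]; group
    rw [e3, h1]
    group
  obtain ⟨u, hu, hcell⟩ := exists_cellJ R hc
  rcases mem_WJ_singleton hu with rfl | rfl
  · exact hcell.mem_of_one
  · exfalso
    have hl1 : cs.length w < cs.length (cs.simple i * w) := by
      have h3 : cs.length (cs.simple i * w) = cs.length (w⁻¹ * cs.simple i) := by
        rw [← cs.length_inv (cs.simple i * w), mul_inv_rev, inv_simple]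
      rw [h3, ← cs.length_inv w]
      refine (lt_iff' cs h w⁻¹ i).2 ?_
      change 0 ≤ rep cs h w⁻¹ (sr i)
      rw [F.rep_inv_sr]
      exact sr_nonneg i
    have h4 : Cell R.nsys cs h X w (k * (v₁ * b)) :=
      (cell_of_rp (h := h) (X := X) F.hk).mul_right (mul_mem (VJ_le_B _ hv₁) F.hb)
    have h5 := cell_simple_mul R hcell.cell h4 hl1
    rw [← e2] at h5
    have h6 := F.hmax _ _ h5
    omega

theorem normBJ {c x : Y} (hc : c ∈ BJ cs h T X {i}) (hx : x ∈ X (sr i)) : c * x * c⁻¹ ∈ X (sr i) := by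
  have h1 : BJ cs h T X {i} ≤ Subgroup.normalizer (X (sr i) : Set Y) := by
    refine sup_le (fun t ht => ?_) ?_
    · rw [mem_normalizer_iff_cj]
      exact R.tor _ (isRoot_sr cs h i) t ht
    · rw [UJ_singleton]
      exact Subgroup.le_normalizer
  exact conj_mem_of_norm (h1 hc) hx

/-- elements all of whose `L_J`-conjugates are in `B_J` centralise `X α_i` -/
theorem comm_of_core {c : Y} (hc : ∀ l ∈ LJ cs h T X {i}, l⁻¹ * c * l ∈ BJ cs h T X {i}) {x : Y}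
    (hx : x ∈ X (sr i)) : c * x = x * c := by
  have hri : sr i ∈ RootsJ cs h {i} := hri i
  have hxL : x ∈ LJ cs h T X {i} := X_le_LJ hri hx
  have hn : n i ∈ LJ cs h T X {i} := n_mem_LJ R rfl
  have h0 : c ∈ BJ cs h T X {i} := by simpa using hc 1 (one_mem _)
  have h1 : c * x * c⁻¹ * x⁻¹ ∈ X (sr i) := mul_mem (F.normBJ h0 hx) (inv_mem hx)
  have h2 : (n i)⁻¹ * (c * x * c⁻¹ * x⁻¹) * (n i)⁻¹⁻¹ ∈ RGD.B cs h T X := by
    have e : (n i)⁻¹ * (c * x * c⁻¹ * x⁻¹) * (n i)⁻¹⁻¹ =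
        ((n i)⁻¹ * c * n i) * ((x⁻¹ * n i)⁻¹ * c * (x⁻¹ * n i))⁻¹ := by group
    rw [e]
    exact BJ_le_B _ (mul_mem (hc _ hn) (inv_mem (hc _ (mul_mem (inv_mem hxL) hn))))
  have hni : Rp cs R.nsys (cs.simple i) (n i)⁻¹ := by
    have := (rp_simple cs R.nsys i).inv
    rwa [inv_simple] at this
  have h3 := eq_one_of_conj_mem_B R h1 hni h2
  have h4 : c * x = (c * x * c⁻¹ * x⁻¹) * (x * c) := by group
  rw [h4, h3, one_mul]

/-- **`a l ∈ l V⁻` for `l ∈ ⟨X α_i, X (-α_i)⟩`.** -/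
theorem fix {l : Y} (hl : l ∈ X (sr i) ⊔ X (-sr i)) :
    ∃ v ∈ VNJ cs h X {i}, (MulAut.conj (k * b) * β) l = l * v := by
  obtain ⟨bJ, hbJ, v, hv, e⟩ := F.exists_dec
  have hri : sr i ∈ RootsJ cs h {i} := hri i
  obtain ⟨f, hf⟩ : ∃ f : MulAut Y, f = MulAut.conj (k * bJ) * β := ⟨_, rfl⟩
  have hfa : ∀ x, f x = k * bJ * β x * (k * bJ)⁻¹ := fun x => by rw [hf, MulAut.mul_apply, MulAut.conj_apply]
  have hcore : ∀ l ∈ LJ cs h T X {i}, l⁻¹ * f l ∈ BJ cs h T X {i} := fun l hl => by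
    rw [hfa]; exact F.core_mem hbJ hv e hl
  have hcore2 : ∀ l ∈ LJ cs h T X {i}, ∀ l' ∈ LJ cs h T X {i}, l'⁻¹ * (l⁻¹ * f l) * l' ∈ BJ cs h T X {i} := by
    intro l hl l' hl'
    have h1 := hcore _ (mul_mem hl hl')
    have h2 := hcore _ hl'
    have e1 : l'⁻¹ * (l⁻¹ * f l) * l' = ((l * l')⁻¹ * f (l * l')) * (l'⁻¹ * f l')⁻¹ := by
      rw [map_mul]; group
    rw [e1]
    exact mul_mem h1 (inv_mem h2)
  have hn : n i ∈ LJ cs h T X {i} := n_mem_LJ R rfl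
  have hpos : ∀ x ∈ X (sr i), f x = x := by
    intro x hx
    have hxL : x ∈ LJ cs h T X {i} := X_le_LJ hri hx
    have h1 : f x ∈ X (sr i) := by
      rw [hfa]
      have e1 : k * bJ * β x * (k * bJ)⁻¹ = k * (bJ * β x * bJ⁻¹) * k⁻¹ := by group
      rw [e1]
      have h2 := R.conj_mem F.hk (isRoot_sr cs h i) (F.normBJ hbJ ((F.beta_root (isRoot_sr cs h i) x).2 hx))
      rwa [F.hi] at h2
    have h2 : x⁻¹ * f x ∈ X (sr i) := mul_mem (inv_mem hx) h1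
    have hni : Rp cs R.nsys (cs.simple i) (n i)⁻¹ := by
      have := (rp_simple cs R.nsys i).inv
      rwa [inv_simple] at this
    have h3 : (n i)⁻¹ * (x⁻¹ * f x) * (n i)⁻¹⁻¹ ∈ RGD.B cs h T X := by
      rw [inv_inv]
      exact BJ_le_B _ (hcore2 x hxL _ hn)
    have h4 := eq_one_of_conj_mem_B R h2 hni h3
    rw [inv_mul_eq_one] at h4
    exact h4.symm
  have hneg : ∀ x ∈ X (-sr i), f x = x := by
    intro x hx
    have h1 : (n i)⁻¹ * x * n i ∈ X (sr i) := by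
      have := R.conj_mem' (rp_simple cs R.nsys i) (isRoot_sr cs h i).neg hx
      rwa [inv_simple, map_neg, rep_simple_sr, neg_neg] at this
    have h2 := F.comm_of_core (c := (n i)⁻¹ * f (n i)) (fun l hl => hcore2 _ hn l hl) h1
    have h3 := hpos _ h1
    have h4 : x = n i * ((n i)⁻¹ * x * n i) * (n i)⁻¹ := by group
    have h5 : f x = f (n i) * ((n i)⁻¹ * x * n i) * (f (n i))⁻¹ := by
      conv_lhs => rw [h4]
      rw [map_mul, map_mul, map_inv, h3]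
    rw [h5]
    calc f (n i) * ((n i)⁻¹ * x * n i) * (f (n i))⁻¹
        = n i * (((n i)⁻¹ * f (n i)) * ((n i)⁻¹ * x * n i)) * (f (n i))⁻¹ := by group
      _ = x := by rw [h2]; group
  have hall : f l = l := by
    have h1 : X (sr i) ⊔ X (-sr i) ≤ MonoidHom.eqLocus (f.toMonoidHom : Y →* Y) (MonoidHom.id Y) := sup_le hpos hneg
    exact h1 hl
  have hlL : l ∈ LJ cs h T X {i} := by
    have h1 : X (sr i) ⊔ X (-sr i) ≤ LJ cs h T X {i} := sup_le (X_le_LJ hri) (X_le_LJ (RootsJ.neg hri))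
    exact h1 hl
  obtain ⟨v₁, hv₁, h1⟩ := F.mul_form hbJ hv e hlL
  refine ⟨k * v₁ * k⁻¹, F.k_VJ hv₁, ?_⟩
  rw [h1, ← hfa, hall]

/-- **Equivariance** on a subgroup `Q` mapped to a subgroup centralised by `V⁻`. -/
theorem equi {Q Q' : Subgroup Y} (hQ : ∀ m ∈ Q, (MulAut.conj (k * b) * β) m ∈ Q')
    (hc : ∀ v ∈ VNJ cs h X {i}, ∀ m ∈ Q', v * m = m * v) {l m : Y} (hl : l ∈ X (sr i) ⊔ X (-sr i)) (hm : m ∈ Q) :
    (MulAut.conj (k * b) * β) (l * m * l⁻¹) = l * (MulAut.conj (k * b) * β) m * l⁻¹ := by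
  obtain ⟨v, hv, e⟩ := F.fix hl
  rw [map_mul, map_mul, map_inv, e]
  have h1 := hc v hv _ (hQ m hm)
  calc l * v * (MulAut.conj (k * b) * β) m * (l * v)⁻¹
      = l * (v * (MulAut.conj (k * b) * β) m) * v⁻¹ * l⁻¹ := by group
    _ = l * (MulAut.conj (k * b) * β) m * l⁻¹ := by rw [h1]; group

end Frm

end

end Cfsg.Agent.H445.Gs.Exc
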