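import Cfsg.Agent.H445.Gs.TG
import Cfsg.Agent.H148.G2Inst
import Cfsg.Agent.Cit.HexD4
import Cfsg.Agent.Mrg.Omega.EH3.Kf.FamD4
import Cfsg.Agent.KFacts.RgdChevCoord

/-!
# The exceptional automorphisms of `G₂(q)`, `q ≥ 3`, and `³D₄(q)` (S4327, helper445)

`conj y α (conj y)⁻¹ = conj (k b) β`, `β` a frame automorphism without diagram part, `k` over `w` of maximal length,
`w α_i = α_i` for the long simple root (`i = 1` in `G₂`, `i = 0` in `³D₄`), `w α_j ≤ 0`: `Reach α 11 ⊤`.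

* `G2.reach`, `TD4.reach`.
-/

set_option autoImplicit false
set_option linter.unusedSectionVars false

namespace Cfsg.Agent.H445.Gs.Exc

open CoxeterSystem Cfsg.Agent.ChevalleyStructure.CoxeterGeom Cfsg.Agent.Tits.Roots Cfsg.Agent.Tits.Core
open Cfsg.Lie Cfsg.Agent.ChevalleyStructure Cfsg.Agent.ChevalleyStructure.Elts
  Cfsg.Agent.ChevalleyStructure.RootVec Cfsg.Agent.ChevalleyStructure.CoxeterGeomTypes
open Cfsg.Agent.Nodes Cfsg.Agent.Nodes.Reps Cfsg.Agent.Nodes.BNOf Cfsg.Agent.Nodes.Coroot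
open Cfsg.Agent.KFacts.RgdAut Cfsg.Agent.KFacts.RgdDiag
open Cfsg.Agent.H915.Gs (Reach im)
open Cfsg.Agent.Cit.HexBase

universe u v

namespace G2

open Cfsg.Agent.Nodes.RGDChev
open Cfsg.Agent.KFacts.RgdChevCoord (TT XX)

theorem tab_vec : ∀ k : ZMod (2 * 6), rt (1 : Fin 2) 0 k = vec chevG2 2 (Hexagon.G2Side.tab k) := by decide +kernel

theorem tab_sur : ∀ r < chevG2.nroots, ∃ k : ZMod (2 * 6), Hexagon.G2Side.tab k = r := by decide +kernel

variable {K : Type u} [Field K] [Finite K] {W : Type*} [Group W] (cs : CoxeterSystem CoxeterMatrix.G₂ W)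
  (hp : IsType chevG2 2 CoxeterMatrix.G₂) (p : ℕ) [Fact p.Prime] [CharP K p]

theorem dict (ha : ∃ a : K, a ≠ 0 ∧ a ≠ 1) : Dict (RGDChev.rgd (K := K) hp cs p) (H148.Hex.g2' K ha) 1 0 where
  ij := by decide
  hr k := by
    rw [tab_vec k]
    exact isRoot_vec hp cs (Hexagon.G2Side.tab_lt k)
  hX k := by
    rw [tab_vec k]
    rw [XV_vec hp K (Hexagon.G2Side.tab_lt k)]
    rfl
  hs x hx := by
    obtain ⟨r, hr, rfl⟩ := (isRoot_iff hp cs x).1 hx
    obtain ⟨k, rfl⟩ := tab_sur r hr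
    exact ⟨k, (tab_vec k).symm⟩

/-- **`G₂(q)`, `q ≥ 3`, the exceptional automorphisms.** -/
theorem reach (ha : ∃ a : K, a ≠ 0 ∧ a ≠ 1)
    {α β : MulAut ↥(chevG2.group K)} {y k b : ↥(chevG2.group K)} {w : W}
    (F : Frm (RGDChev.rgd (K := K) hp cs p) β k b w 1)
    (e : MulAut.conj y * α * (MulAut.conj y)⁻¹ = MulAut.conj (k * b) * β) : Reach α 11 ⊤ := by
  have := finite_W hp cs
  have : Finite ↥(chevG2.group K) := inferInstance
  exact form_g2 F (dict cs hp p ha) e (tg _) (fun _ => rfl) ha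

end G2

namespace TD4

open Cfsg.Agent.Nodes.RGDTwGen Cfsg.Agent.Nodes.RGDChev Cfsg.Agent.Nodes.RGDFold
open Cfsg.Agent.ChevalleyStructure.D4Fixed (sig)
open Cfsg.Agent.ChevalleyStructure.D4U
open Cfsg.Agent.Nodes.RGDTwD4 Cfsg.Agent.Hexagon

theorem tab_cls : ∀ k : ZMod (2 * 6), ∀ r < chevD4.nroots, (V chevD4 J r = rt (0 : Fin 2) 1 k ↔ r ∈ TwD4RGD.L k) := by
  decide +kernel

theorem tab_lt : ∀ k : ZMod (2 * 6), ∀ r ∈ TwD4RGD.L k, r < chevD4.nroots := by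
  decide +kernel

theorem tab_ne : ∀ k : ZMod (2 * 6), ∃ r ∈ TwD4RGD.L k, r = r := by
  decide +kernel

theorem tab_sur : ∀ r < chevD4.nroots, ∃ k : ZMod (2 * 6), r ∈ TwD4RGD.L k := by decide +kernel

variable {K : Type u} [Field K] [Fintype K] {q : ℕ} {W : Type*} [Group W] (cs : CoxeterSystem CoxeterMatrix.G₂ W)
  (p : ℕ) [Fact p.Prime] [CharP K p]

theorem dict (hq : IsPrimePow q) (hK : Fintype.card K = q ^ 3) {φ : K →+* K} (hφ : ∀ x, φ x = x ^ q) {σ : K ≃+* K}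
    (hσ : ∀ x, σ x = x ^ q) :
    Dict (Nodes.RGDTwD4.rgd cs hK hφ p) (Cit.HexD4.d4 hq hK hσ) 0 1 where
  ij := by decide
  hr k := by
    obtain ⟨r, hr, -⟩ := tab_ne k
    have h1 := tab_lt k r hr
    rw [← (tab_cls k r h1).2 hr]
    exact Omega.EH3.Kf.FamD4.isRoot_V cs h1
  hX k := Omega.EH3.Kf.FamD4.X_eq (D4Fixed.twisted_le_fix hK hφ) (tab_cls k) (tab_lt k) rfl
  hs x hx := by
    obtain ⟨r, hr, rfl⟩ := (foldData.isRoot_iff (cs := cs) (h := RGDTwD4.isCartan) RGDTwD4.hp.checked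
      (fun i _ hr => wp_lt RGDTwD4.hp (J i) hr) _).1 hx
    obtain ⟨k, hk⟩ := tab_sur r hr
    exact ⟨k, (tab_cls k r hr).2 hk⟩

/-- **`³D₄(q)`, the exceptional automorphisms.** -/
theorem reach (hq : IsPrimePow q) (hK : Fintype.card K = q ^ 3)
    {φ : K →+* K} (hφ : ∀ x, φ x = x ^ q)
    {α β : MulAut ↥(twistedD4 K q)} {y k b : ↥(twistedD4 K q)} {w : W}
    (F : Frm (Nodes.RGDTwD4.rgd cs hK hφ p) β k b w 0)
    (e : MulAut.conj y * α * (MulAut.conj y)⁻¹ = MulAut.conj (k * b) * β) : Reach α 11 ⊤ := by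
  have := Cfsg.Agent.Nodes.RGDFold.finite_W (hp := RGDTwD4.hp) cs RGDTwD4.isCartan foldData
  have : Finite ↥(twistedD4 K q) := inferInstance
  let σ : K ≃+* K := RingEquiv.ofBijective φ ((Finite.injective_iff_bijective).1 φ.injective)
  have hσ : ∀ x, σ x = x ^ q := hφ
  exact form_td4 F (dict cs p hq hK hφ hσ) e (tg _) hq.two_le hK hσ

end TD4

end Cfsg.Agent.H445.Gs.Exc
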