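import Cfsg.Agent.H445.Gs.Root

/-!
# S4327, orthogonal groups: growth (helper445)

* `RR Q H a b` : `H` contains the long root group of `⟨a, b⟩` (all `siegel a (t b)`);
* `SL3 Q H ...` : `H` contains the root groups `⟨e_i, f_j⟩`, `i ≠ j`, of three orthogonal hyperbolic pairs;
* `SL3.of_two` : from the long `SL₂` and one more root group;
* `SL3.full` : from `SL3` and one more root group to `EY Q W`, `W` of dimension six;
* `grow_one`, `grow_all` : one more root group adds one dimension.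
-/

set_option autoImplicit false
set_option linter.unusedSectionVars false

namespace Cfsg.Agent.H445.Gs

open QuadraticMap Cfsg.Agent.LieClassical.OrthCore Cfsg.Agent.LieClassical.OrthTrans
  Cfsg.Agent.LieClassical.OrthFinite Cfsg.Agent.H883.Sub Cfsg.Agent.H883.Root Module Cfsg.Agent.H445.AH
  Cfsg.Agent.ClassicalGeometry.OrthSemi Cfsg.Agent.UGT.U2.FOne.Orth Cfsg.Agent.H915.Gs

variable {F V : Type*} [Field F] [AddCommGroup V] [Module F V] {Q : QuadraticForm F V}

/-! ### `RR` -/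

/-- all `siegel a (t b)` are in `H` -/
def RR (Q : QuadraticForm F V) (H : Subgroup (V ≃ₗ[F] V)) (a b : V) : Prop := ∀ t : F, Has Q H a (t • b)

section RR

variable {H H' : Subgroup (V ≃ₗ[F] V)} {a a' b b' c : V}

theorem RR.mono (h : RR Q H a b) (hH : H ≤ H') : RR Q H' a b := fun t => (h t).mono hH

theorem RR.sing (h : RR Q H a b) : Q a = 0 := (h 0).sing

theorem RR.perp (h : RR Q H a b) : polar Q a b = 0 := by
  have := (h 1).perp
  rwa [one_smul] at this

theorem RR.has (h : RR Q H a b) : Has Q H a b := by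
  have := h 1
  rwa [one_smul] at this

theorem RR.add (h : RR Q H a b) (h' : RR Q H a b') : RR Q H a (b + b') := fun t => by
  rw [smul_add]
  exact (h t).add (h' t)

theorem RR.smul (h : RR Q H a b) (s : F) : RR Q H a (s • b) := fun t => by
  rw [smul_smul]
  exact h _

theorem RR.neg (h : RR Q H a b) : RR Q H a (-b) := by
  have := h.smul (-1)
  rwa [neg_one_smul] at this

theorem RR.sub (h : RR Q H a b) (h' : RR Q H a b') : RR Q H a (b - b') := by
  rw [sub_eq_add_neg]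
  exact h.add h'.neg

theorem RR.of_neg (h : RR Q H a (-b)) : RR Q H a b := by
  have := h.neg
  rwa [neg_neg] at this

theorem RR.self (h : Q a = 0) : RR Q H a a := fun t => has_self h t

theorem RR.flip (h : RR Q H a b) (hb : Q b = 0) : RR Q H b a := fun t => by
  have h1 := (h (-t)).swap (by rw [QuadraticMap.map_smul, hb, smul_zero])
  have h2 := h1.smul_right hb (by rw [polar_neg_right, polar_comm, h.perp, neg_zero])
  rwa [smul_neg, neg_smul, neg_neg] at h2

theorem RR.add_left (h : RR Q H a b) (h' : RR Q H a' b) (hb : Q b = 0) (ha : Q (a + a') = 0) :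
    RR Q H (a + a') b := ((h.flip hb).add (h'.flip hb)).flip ha

theorem RR.comm {u w : V} (h : RR Q H u w) (h' : RR Q H a b) (hua : polar Q u a = 0) (hwa : polar Q w a = 0)
    (hw : Q w = 0) : RR Q H a (polar Q u b • w - polar Q w b • u) := fun t => by
  have h1 := h.has.comm (h' t) hua hwa
  rw [hw, zero_mul, add_zero, polar_smul_right, polar_smul_right] at h1
  convert h1 using 1
  rw [smul_sub, smul_smul, smul_smul]
  rfl

theorem RR.map (h : RR Q H a b) {g : V ≃ₗ[F] V} (hgO : g ∈ O Q) (hg : g ∈ H) : RR Q H (g a) (g b) := fun t => by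
  rw [← map_smul]
  exact (h t).map hgO hg

end RR

/-! ### Subgroups of `E Q` -/

/-- a subgroup of `E Q` as a subgroup of `GL(V)` -/
abbrev hh (J : Subgroup ↥(E Q)) : Subgroup (V ≃ₗ[F] V) := J.map (E Q).subtype

theorem hh_mono {J J' : Subgroup ↥(E Q)} (h : J ≤ J') : hh J ≤ hh J' := Subgroup.map_mono h

theorem mem_hh {J : Subgroup ↥(E Q)} {g : ↥(E Q)} : (g : V ≃ₗ[F] V) ∈ hh J ↔ g ∈ J := by
  constructor
  · rintro ⟨x, hx, e⟩
    rwa [← Subtype.ext (show (x : V ≃ₗ[F] V) = g from e)]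
  · intro h
    exact ⟨g, h, rfl⟩

theorem RG_le_iff {a b : V} (h : TS2 Q a b) {J : Subgroup ↥(E Q)} : RG Q a b ≤ J ↔ RR Q (hh J) a b := by
  have hp : ∀ t : F, polar Q a (t • b) = 0 := fun t => by rw [polar_smul_right, h.huv, smul_zero]
  have hq : ∀ t : F, Q (t • b) = 0 := fun t => by rw [QuadraticMap.map_smul, h.hv, smul_zero]
  constructor
  · intro h1 t
    refine ⟨h.hu, hp t, ?_⟩
    have h2 : (⟨siegel Q a (t • b) h.hu (hp t), siegel_mem_E _ _⟩ : ↥(E Q)) ∈ RG Q a b :=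
      mem_RG t fun v => siegel_eq_tl h.hu (hq t) (hp t) v
    exact ⟨_, h1 h2, rfl⟩
  · intro h1
    refine RG_le fun g t hg => ?_
    have h2 := (h1 t).mem h.hu (hp t)
    have h3 : siegel Q a (t • b) h.hu (hp t) = (g : V ≃ₗ[F] V) := by
      ext v
      rw [hg, siegel_eq_tl h.hu (hq t) (hp t)]
    rw [h3] at h2
    exact mem_hh.1 h2

theorem RR_RG {a b : V} (h : TS2 Q a b) : RR Q (hh (RG Q a b)) a b := (RG_le_iff h).1 le_rfl

/-! ### Three orthogonal hyperbolic pairs -/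

/-- three mutually orthogonal hyperbolic pairs -/
structure Six (Q : QuadraticForm F V) (e₁ f₁ e₂ f₂ e₃ f₃ : V) : Prop where
  h12 : Four Q e₁ f₁ e₂ f₂
  h13 : Four Q e₁ f₁ e₃ f₃
  h23 : Four Q e₂ f₂ e₃ f₃

theorem exists_six [Finite F] [FiniteDimensional F V] (hG : Good Q) (hd : 7 ≤ finrank F V) {e₁ f₁ e₂ f₂ : V}
    (h : Four Q e₁ f₁ e₂ f₂) : ∃ e₃ f₃, Six Q e₁ f₁ e₂ f₂ e₃ f₃ := by
  obtain ⟨p, hp0, hp, hpp⟩ := exists_sing_perp (Q := Q) (n := 4) ![e₁, f₁, e₂, f₂] (by omega)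
  have hN := (four_nondegOn h).perp hG.nondeg
  have hpW : p ∈ perp Q (Submodule.span F (Set.range ![e₁, f₁, e₂, f₂])) := by
    rw [mem_perp]
    intro w hw
    induction hw using Submodule.span_induction with
    | mem x hx =>
      obtain ⟨i, rfl⟩ := hx
      exact hpp i
    | zero => exact polar_zero_left Q _
    | add x y _ _ hx hy => rw [polar_add_left, hx, hy, add_zero]
    | smul a x _ hx => rw [polar_smul_left, hx, smul_zero]
  obtain ⟨y, hy, hpy⟩ := hN.exists_polar_eq hpW hp0 1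
  have hmem : ∀ i, ![e₁, f₁, e₂, f₂] i ∈ Submodule.span F (Set.range ![e₁, f₁, e₂, f₂]) :=
    fun i => Submodule.subset_span ⟨i, rfl⟩
  have k1 : polar Q e₁ p = 0 := hpp 0
  have k2 : polar Q f₁ p = 0 := hpp 1
  have k3 : polar Q e₂ p = 0 := hpp 2
  have k4 : polar Q f₂ p = 0 := hpp 3
  have j1 : polar Q e₁ y = 0 := mem_perp.1 hy _ (hmem 0)
  have j2 : polar Q f₁ y = 0 := mem_perp.1 hy _ (hmem 1)
  have j3 : polar Q e₂ y = 0 := mem_perp.1 hy _ (hmem 2)
  have j4 : polar Q f₂ y = 0 := mem_perp.1 hy _ (hmem 3)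
  have hyp : Hyp Q p (y + (-Q y) • p) := by
    refine ⟨hp, ?_, ?_⟩
    · rw [Q_add, QuadraticMap.map_smul, hp, polar_smul_right, polar_comm Q y p, hpy]
      simp
    · rw [polar_add_right, polar_smul_right, polar_self_of_sing hp, hpy]
      simp
  refine ⟨p, _, h, ⟨h.h1, hyp, k1, ?_, k2, ?_⟩, ⟨h.h2, hyp, k3, ?_, k4, ?_⟩⟩
  · rw [polar_add_right, polar_smul_right, j1, k1]; simp
  · rw [polar_add_right, polar_smul_right, j2, k2]; simp
  · rw [polar_add_right, polar_smul_right, j3, k3]; simp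
  · rw [polar_add_right, polar_smul_right, j4, k4]; simp

/-- `H` contains the root groups `⟨e_i, f_j⟩`, `i ≠ j` -/
structure SL3 (Q : QuadraticForm F V) (H : Subgroup (V ≃ₗ[F] V)) (e₁ f₁ e₂ f₂ e₃ f₃ : V) : Prop where
  r12 : RR Q H e₁ f₂
  r13 : RR Q H e₁ f₃
  r21 : RR Q H e₂ f₁
  r23 : RR Q H e₂ f₃
  r31 : RR Q H e₃ f₁
  r32 : RR Q H e₃ f₂

section Six

variable {e₁ f₁ e₂ f₂ e₃ f₃ : V} (h : Six Q e₁ f₁ e₂ f₂ e₃ f₃) {H : Subgroup (V ≃ₗ[F] V)}

include h

/-- the long `SL₂` and one more root group -/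
theorem SL3.of_two (r12 : RR Q H e₁ f₂) (r21 : RR Q H e₂ f₁) (hB : RR Q H (e₁ + e₂ + e₃) (f₁ - f₃)) :
    SL3 Q H e₁ f₁ e₂ f₂ e₃ f₃ := by
  obtain ⟨p1, p2, p3, p4, p5, p6, p7, p8, p9, p10, p11, p12, p13, p14, p15, p16⟩ := h.h12.pols
  obtain ⟨-, -, q3, q4, -, -, q7, q8, q9, q10, q11, q12, q13, q14, q15, q16⟩ := h.h13.pols
  obtain ⟨-, -, -, -, -, -, -, -, s9, s10, s11, s12, s13, s14, s15, s16⟩ := h.h23.pols
  have hω : Q (f₁ - f₃) = 0 := by
    rw [sub_eq_add_neg, Q_add, QuadraticMap.map_neg, polar_neg_right, h.h12.h1.right, h.h13.h2.right, q15]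
    simp
  -- step 1
  have s1 := (r21.comm (hB.flip hω) (by rw [polar_sub_right, p14, s11, sub_zero])
    (by rw [polar_sub_right, p2, q15, sub_zero]) h.h12.h1.right)
  have e1 : polar Q e₂ (e₁ + e₂ + e₃) • f₁ - polar Q f₁ (e₁ + e₂ + e₃) • e₂ = -e₂ := by
    simp only [polar_add_right, p10, p3, s9, p6, p13, q13]
    module
  rw [e1] at s1
  have s2 := (s1.of_neg.flip h.h12.h2.left).sub r21
  have e2 : f₁ - f₃ - f₁ = -f₃ := by abel
  rw [e2] at s2
  have r23 := s2.of_neg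
  -- step 2
  have s3 := r12.comm (r23.flip h.h13.h2.right) q11 s15 h.h12.h2.right
  have e3 : polar Q e₁ e₂ • f₂ - polar Q f₂ e₂ • e₁ = -e₁ := by
    rw [p9, p8]
    module
  rw [e3] at s3
  have r13 := s3.of_neg.flip h.h12.h1.left
  -- step 3
  have hx : Q (e₁ + e₂) = 0 := by
    rw [Q_add, h.h12.h1.left, h.h12.h2.left, p9]
    simp
  have s4 : RR Q H (e₁ + e₂) f₃ := r13.add_left r23 h.h13.h2.right hx
  have s5 := hB.map (siegel_mem_O s4.has.sing s4.has.perp) (s4.has.mem _ _)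
  have e5 : siegel Q (e₁ + e₂) f₃ s4.has.sing s4.has.perp (e₁ + e₂ + e₃) = e₃ := by
    rw [siegel_apply]
    simp only [polar_add_left, polar_add_right, p1, p3, p9, p10, q9, s9, q12, s12, q8, h.h13.h2.right]
    module
  have e6 : siegel Q (e₁ + e₂) f₃ s4.has.sing s4.has.perp (f₁ - f₃) = f₁ := by
    rw [siegel_apply]
    simp only [polar_add_left, polar_sub_right, p5, p14, q11, s11, q16, q4, h.h13.h2.right]
    module
  rw [e5, e6] at s5
  -- step 4
  have s6 := r12.comm s5 q9 s13 h.h12.h2.right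
  have e7 : polar Q e₁ f₁ • f₂ - polar Q f₂ f₁ • e₁ = f₂ := by
    rw [p5, p16]
    module
  rw [e7] at s6
  exact ⟨r12, r13, r21, r23, s5, s6⟩

/-- the opposite root group for `SL3.of_two` -/
theorem opp_two : Opp Q e₁ f₂ (e₁ + e₂ + e₃) (f₁ - f₃) := by
  obtain ⟨p1, p2, p3, p4, p5, p6, p7, p8, p9, p10, p11, p12, p13, p14, p15, p16⟩ := h.h12.pols
  obtain ⟨-, -, q3, q4, -, -, q7, q8, q9, q10, q11, q12, q13, q14, q15, q16⟩ := h.h13.pols
  obtain ⟨-, -, -, -, -, -, -, -, s9, s10, s11, s12, s13, s14, s15, s16⟩ := h.h23.pols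
  refine ⟨(four_opp h.h12).left, ⟨?_, ?_, ?_, ?_⟩, ?_⟩
  · intro a b hab
    have k1 : polar Q f₂ (a • (e₁ + e₂ + e₃) + b • (f₁ - f₃)) = 0 := by rw [hab, polar_zero_right]
    have k2 : polar Q e₁ (a • (e₁ + e₂ + e₃) + b • (f₁ - f₃)) = 0 := by rw [hab, polar_zero_right]
    simp only [polar_add_right, polar_sub_right, polar_smul_right, smul_eq_mul, p12, p8, s13, p16, s15, p1, p9,
      q9, p5, q11] at k1 k2
    exact ⟨by simpa using k1, by simpa using k2⟩
  · simp only [Q_add, polar_add_left, h.h12.h1.left, h.h12.h2.left, h.h13.h2.left, p9, q9, s9]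
    simp
  · rw [sub_eq_add_neg, Q_add, QuadraticMap.map_neg, polar_neg_right, h.h12.h1.right, h.h13.h2.right, q15]
    simp
  · simp only [polar_add_left, polar_sub_right, p5, p14, q14, q11, s11, q7]
    ring
  · simp only [polar_add_right, polar_sub_right, p1, p9, q9, p16, s15, p5, q11, p12, p8, s13]
    simp

/-- the opposite root group for `SL3.full` -/
theorem opp_three : Opp Q e₁ f₃ (e₁ - e₃ + f₂) (e₂ - f₁) := by
  obtain ⟨p1, p2, p3, p4, p5, p6, p7, p8, p9, p10, p11, p12, p13, p14, p15, p16⟩ := h.h12.pols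
  obtain ⟨-, -, q3, q4, -, -, q7, q8, q9, q10, q11, q12, q13, q14, q15, q16⟩ := h.h13.pols
  obtain ⟨-, -, -, -, -, -, -, -, s9, s10, s11, s12, s13, s14, s15, s16⟩ := h.h23.pols
  refine ⟨(four_opp h.h13).left, ⟨?_, ?_, ?_, ?_⟩, ?_⟩
  · intro a b hab
    have k1 : polar Q f₁ (a • (e₁ - e₃ + f₂) + b • (e₂ - f₁)) = 0 := by rw [hab, polar_zero_right]
    have k2 : polar Q f₂ (a • (e₁ - e₃ + f₂) + b • (e₂ - f₁)) = 0 := by rw [hab, polar_zero_right]
    simp only [polar_add_right, polar_sub_right, polar_smul_right, smul_eq_mul, p6, q13, p15, p13, p2, p12,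
      s13, p4, p8, p16] at k1 k2
    exact ⟨by simpa using k1, by simpa using k2⟩
  · rw [sub_eq_add_neg]
    simp only [Q_add, polar_add_left, QuadraticMap.map_neg, polar_neg_right, polar_neg_left, h.h12.h1.left,
      h.h13.h2.left, h.h12.h2.right, q9, p11, s14]
    simp
  · rw [sub_eq_add_neg, Q_add, QuadraticMap.map_neg, polar_neg_right, h.h12.h2.left, h.h12.h1.right, p14]
    simp
  · simp only [polar_add_left, polar_sub_left, polar_sub_right, p9, p5, s10, q14, p8, p16]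
    ring
  · simp only [polar_add_right, polar_sub_right, p1, q9, p11, s12, p9, p5, q12, q8, s16, q16]
    simp

/-- the span of the six vectors -/
theorem six_nondegOn : NondegOn Q (Submodule.span F (Set.range ![e₁, f₁, e₂, f₂, e₃, f₃])) := by
  obtain ⟨p1, p2, p3, p4, p5, p6, p7, p8, p9, p10, p11, p12, p13, p14, p15, p16⟩ := h.h12.pols
  obtain ⟨-, -, q3, q4, -, -, q7, q8, q9, q10, q11, q12, q13, q14, q15, q16⟩ := h.h13.pols
  obtain ⟨-, -, -, -, -, -, -, -, s9, s10, s11, s12, s13, s14, s15, s16⟩ := h.h23.pols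
  intro v hv hv'
  obtain ⟨c, rfl⟩ := (Submodule.mem_span_range_iff_exists_fun F).1 hv
  have k1 := hv' f₁ (Submodule.subset_span ⟨1, rfl⟩)
  have k2 := hv' e₁ (Submodule.subset_span ⟨0, rfl⟩)
  have k3 := hv' f₂ (Submodule.subset_span ⟨3, rfl⟩)
  have k4 := hv' e₂ (Submodule.subset_span ⟨2, rfl⟩)
  have k5 := hv' f₃ (Submodule.subset_span ⟨5, rfl⟩)
  have k6 := hv' e₃ (Submodule.subset_span ⟨4, rfl⟩)
  rw [Fin.sum_univ_six] at k1 k2 k3 k4 k5 k6 ⊢
  simp only [Matrix.cons_val, polar_add_left, polar_smul_left, smul_eq_mul, p1, p2, p3, p4, p5, p6, p7, p8, p9,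
    p10, p11, p12, p13, p14, p15, p16, q3, q4, q7, q8, q9, q10, q11, q12, q13, q14, q15, q16, s9, s10, s11, s12,
    s13, s14, s15, s16, mul_zero, mul_one, add_zero, zero_add] at k1 k2 k3 k4 k5 k6 ⊢
  rw [k1, k2, k3, k4, k5, k6]
  simp

theorem six_finrank : finrank F ↥(Submodule.span F (Set.range ![e₁, f₁, e₂, f₂, e₃, f₃])) = 6 := by
  obtain ⟨p1, p2, p3, p4, p5, p6, p7, p8, p9, p10, p11, p12, p13, p14, p15, p16⟩ := h.h12.pols
  obtain ⟨-, -, q3, q4, -, -, q7, q8, q9, q10, q11, q12, q13, q14, q15, q16⟩ := h.h13.pols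
  obtain ⟨-, -, -, -, -, -, -, -, s9, s10, s11, s12, s13, s14, s15, s16⟩ := h.h23.pols
  have hli : LinearIndependent F ![e₁, f₁, e₂, f₂, e₃, f₃] := by
    rw [Fintype.linearIndependent_iff]
    intro c hc
    rw [Fin.sum_univ_six] at hc
    simp only [Matrix.cons_val] at hc
    have k1 := congrArg (polar Q f₁) hc
    have k2 := congrArg (polar Q e₁) hc
    have k3 := congrArg (polar Q f₂) hc
    have k4 := congrArg (polar Q e₂) hc
    have k5 := congrArg (polar Q f₃) hc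
    have k6 := congrArg (polar Q e₃) hc
    simp only [polar_add_right, polar_smul_right, smul_eq_mul, p1, p2, p3, p4, p5, p6, p7, p8, p9,
      p10, p11, p12, p13, p14, p15, p16, q3, q4, q7, q8, q9, q10, q11, q12, q13, q14, q15, q16, s9, s10, s11, s12,
      s13, s14, s15, s16, mul_zero, mul_one, add_zero, zero_add, polar_zero_right] at k1 k2 k3 k4 k5 k6
    intro i
    fin_cases i
    · exact k1
    · exact k2
    · exact k3
    · exact k4
    · exact k5
    · exact k6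
  rw [finrank_span_eq_card hli, Fintype.card_fin]

/-- **`Ω₆⁺` from `SL₃` and one more root group.** -/
theorem SL3.full [Finite F] [FiniteDimensional F V] (h3 : SL3 Q H e₁ f₁ e₂ f₂ e₃ f₃)
    (hB : RR Q H (e₁ - e₃ + f₂) (e₂ - f₁)) :
    EY Q (Submodule.span F (Set.range ![e₁, f₁, e₂, f₂, e₃, f₃])) ≤ H := by
  obtain ⟨r12, r13, r21, r23, r31, r32⟩ := h3
  obtain ⟨p1, p2, p3, p4, p5, p6, p7, p8, p9, p10, p11, p12, p13, p14, p15, p16⟩ := h.h12.pols
  obtain ⟨-, -, q3, q4, -, -, q7, q8, q9, q10, q11, q12, q13, q14, q15, q16⟩ := h.h13.pols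
  obtain ⟨-, -, -, -, -, -, -, -, s9, s10, s11, s12, s13, s14, s15, s16⟩ := h.h23.pols
  have hb : Q (e₂ - f₁) = 0 := by
    rw [sub_eq_add_neg, Q_add, QuadraticMap.map_neg, polar_neg_right, h.h12.h2.left, h.h12.h1.right, p14]
    simp
  -- R a e₃
  have t1 := r32.comm hB (by simp only [polar_add_right, polar_sub_right, q10, q3, s14]; simp)
    (by simp only [polar_add_right, polar_sub_right, p12, s13, p4]; simp) h.h12.h2.right
  have e1 : polar Q e₃ (e₂ - f₁) • f₂ - polar Q f₂ (e₂ - f₁) • e₃ = -e₃ := by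
    rw [polar_sub_right, polar_sub_right, s10, q14, p8, p16]
    module
  rw [e1] at t1
  have t2 := (t1.of_neg.flip h.h13.h2.left).sub r32
  have t3 := t2.add (RR.self (H := H) h.h13.h2.left)
  have e2 : e₁ - e₃ + f₂ - f₂ + e₃ = e₁ := by abel
  rw [e2] at t3
  have x13 : RR Q H e₁ e₃ := t3.flip h.h12.h1.left
  have t4 := r23.comm x13 p10 q12 h.h13.h2.right
  have e3 : polar Q e₂ e₃ • f₃ - polar Q f₃ e₃ • e₂ = -e₂ := by
    rw [s9, q8]
    module
  rw [e3] at t4
  have x12 : RR Q H e₁ e₂ := t4.of_neg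
  -- the other side
  have t5 := (r23.flip h.h13.h2.right).comm (hB.flip hb) (by rw [polar_sub_right, s12, q16, sub_zero])
    (by rw [polar_sub_right, p3, p14, sub_zero]) h.h12.h2.left
  have e4 : polar Q f₃ (e₁ - e₃ + f₂) • e₂ - polar Q e₂ (e₁ - e₃ + f₂) • f₃ = -(e₂ + f₃) := by
    simp only [polar_add_right, polar_sub_right, q12, q8, s16, p10, s9, p7]
    module
  rw [e4] at t5
  have t6 := t5.of_neg.sub (RR.self (H := H) hb)
  have e5 : e₂ + f₃ - (e₂ - f₁) = f₁ + f₃ := by abel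
  rw [e5] at t6
  have hf13 : Q (f₁ + f₃) = 0 := by
    rw [Q_add, h.h12.h1.right, h.h13.h2.right, q15]
    simp
  have t7 := t6.flip hf13
  have t8 := t7.sub ((r21.add r23).flip hf13)
  have e6 : e₂ - f₁ - e₂ = -f₁ := by abel
  rw [e6] at t8
  have t9 := (t8.of_neg.flip h.h12.h1.right).sub (RR.self (H := H) h.h12.h1.right)
  have e7 : f₁ + f₃ - f₁ = f₃ := by abel
  rw [e7] at t9
  have t10 := (r32.flip h.h12.h2.right).comm t9 p16 q14 h.h13.h2.left
  have e8 : polar Q f₂ f₃ • e₃ - polar Q e₃ f₃ • f₂ = -f₂ := by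
    rw [s15, q7]
    module
  rw [e8] at t10
  have y12 : RR Q H f₁ f₂ := t10.of_neg
  have hN := six_nondegOn h
  have hR : Good (res Q (Submodule.span F (Set.range ![e₁, f₁, e₂, f₂, e₃, f₃]))) :=
    good_res hN (by rw [six_finrank h]; omega)
  refine Cfsg.Agent.H922.Om.EY_le_of_full_pair hN hR (x := e₁) (x' := f₁) (Submodule.subset_span ⟨0, rfl⟩)
    (Submodule.subset_span ⟨1, rfl⟩) h.h12.h1.left h.h12.h1.right (by rw [p5]; exact one_ne_zero) ?_ ?_
  · intro w hw hw0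
    obtain ⟨c, rfl⟩ := (Submodule.mem_span_range_iff_exists_fun F).1 hw
    rw [Fin.sum_univ_six] at hw0 ⊢
    simp only [Matrix.cons_val, polar_add_right, polar_smul_right, smul_eq_mul, p1, p5, p9, p11, q9, q11, mul_zero,
      mul_one, add_zero, zero_add] at hw0 ⊢
    rw [hw0, zero_smul, add_zero]
    exact ((((has_self h.h12.h1.left _).add (x12 _)).add (r12 _)).add (x13 _)).add (r13 _)
  · intro w hw hw0
    obtain ⟨c, rfl⟩ := (Submodule.mem_span_range_iff_exists_fun F).1 hw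
    rw [Fin.sum_univ_six] at hw0 ⊢
    simp only [Matrix.cons_val, polar_add_right, polar_smul_right, smul_eq_mul, p2, p6, p13, p15, q13, q15, mul_zero,
      mul_one, add_zero] at hw0 ⊢
    rw [hw0, zero_smul, zero_add]
    exact ((((has_self h.h12.h1.right _).add (r21.flip h.h12.h1.right _)).add (y12 _)).add
      (r31.flip h.h12.h1.right _)).add (t9 _)

end Six

/-! ### One more dimension -/

/-- `J` contains all `siegel x z`, `x ∈ W` singular, `z ∈ Z` orthogonal to `x` -/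
def Cfg (Q : QuadraticForm F V) (J : Subgroup ↥(E Q)) (W Z : Submodule F V) : Prop :=
  ∀ x ∈ W, Q x = 0 → ∀ z ∈ Z, polar Q x z = 0 → Has Q (hh J) x z

theorem Cfg.of_EY {J : Subgroup ↥(E Q)} {W : Submodule F V} (h : EY Q W ≤ hh J) : Cfg Q J W W :=
  fun _ hx hx0 _ hz hxz => (has_EY (Q := Q) hx0 hxz hx hz).mono h

theorem Cfg.EY {J : Subgroup ↥(E Q)} {W Z : Submodule F V} (h : Cfg Q J W Z) (hWZ : W ≤ Z) :
    EY Q W ≤ hh J :=
  EY_le_iff.2 fun u hu w hw h1 h2 => h u hu h1 w (hWZ hw) h2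

/-- a relation between numbers and subgroups with the growth property -/
structure Growth (Q : QuadraticForm F V) (P : ℕ → Subgroup ↥(E Q) → Prop) : Prop where
  sub : ∀ {k : ℕ} {J J' : Subgroup ↥(E Q)}, P k J → J' ≤ J → P k J'
  root : ∀ {k : ℕ} {J : Subgroup ↥(E Q)} {a b a' b' : V}, P k J → Opp Q a b a' b' → RG Q a b ≤ J →
    P (k + 1) (J ⊔ RG Q a' b')

theorem growth_reach [Finite F] [FiniteDimensional F V] (hG : Good Q) (hd : 6 ≤ finrank F V) {M : Gam Q}
    (hopp : ∃ u v, Opp Q u v (M.1 u) (M.1 v)) : Growth Q (Reach (conjE Q M)) where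
  sub := fun h hJ => h.sub hJ
  root := fun h ho hle => reach_root hG hd hopp h ho hle

theorem growth_ch [Finite F] [FiniteDimensional F V] (hG : Good Q) (hd : 6 ≤ finrank F V) {u v u' v' : V}
    (hopp : Opp Q u v u' v') : Growth Q (Ch (RG Q u v) (RG Q u' v')) where
  sub := fun h hJ => h.sub hJ
  root := fun h ho hle => ch_root hG hd hopp h ho hle

theorem exists_perp_decomp [FiniteDimensional F V] {W : Submodule F V} (h : NondegOn Q W) (v : V) :
    ∃ w ∈ W, ∃ r ∈ perp Q W, v = w + r := h.exists_decomp v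

/-- **one more root group adds a vector** -/
theorem grow_one [Finite F] [FiniteDimensional F V] {P : ℕ → Subgroup ↥(E Q) → Prop} (hP : Growth Q P)
    {W Z : Submodule F V} (hWN : NondegOn Q W) (hWd : 5 ≤ finrank F W) (hWZ : W ≤ Z) {k : ℕ}
    {J : Subgroup ↥(E Q)} (hJ : P k J) (hC : Cfg Q J W Z) (v : V) :
    ∃ J', J ≤ J' ∧ P (k + 1) J' ∧ Cfg Q J' W (Z ⊔ Submodule.span F {v}) := by
  have hWG : Good (res Q W) := good_res hWN hWd
  obtain ⟨w₀, hw₀, r, hr, rfl⟩ := exists_perp_decomp hWN v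
  obtain ⟨a, a', haa⟩ := hWG.exists_hyp
  obtain ⟨z, z', hzz, h1, h2, h3, h4⟩ := hWG.exists_hyp2 haa
  have ha : Q (a : V) = 0 := haa.left
  have ha' : Q (a' : V) = 0 := haa.right
  have haa' : polar Q (a : V) a' = 1 := haa.pair
  have hz : Q (z : V) = 0 := hzz.left
  have hz' : Q (z' : V) = 0 := hzz.right
  have hzz' : polar Q (z : V) z' = 1 := hzz.pair
  have h1' : polar Q (a : V) z = 0 := h1
  have h2' : polar Q (a : V) z' = 0 := h2
  have h3' : polar Q (a' : V) z = 0 := h3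
  have h4' : polar Q (a' : V) z' = 0 := h4
  have hrW : ∀ w ∈ W, polar Q w r = 0 := fun w hw => mem_perp.1 hr w hw
  have hrW' : ∀ w ∈ W, polar Q r w = 0 := fun w hw => mem_perp'.1 hr w hw
  have hra := hrW _ a.2
  have hra' := hrW _ a'.2
  have hrz := hrW _ z.2
  have hrz' := hrW _ z'.2
  -- the second vector
  obtain ⟨w, hwdef⟩ : ∃ w : V, w = (z : V) + (-Q r) • (z' : V) := ⟨_, rfl⟩
  have hwW : w ∈ W := by rw [hwdef]; exact W.add_mem z.2 (W.smul_mem _ z'.2)
  have hQw : Q w = -Q r := by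
    rw [hwdef, Q_add, QuadraticMap.map_smul, polar_smul_right, hz, hz', hzz']
    simp
  have haw : polar Q (a : V) w = 0 := by
    rw [hwdef, polar_add_right, polar_smul_right, h1', h2']
    simp
  have hwz' : polar Q w (z' : V) = 1 := by
    rw [hwdef, polar_add_left, polar_smul_left, hzz', polar_self_of_sing hz']
    simp
  have hwa' : polar Q w (a' : V) = 0 := by
    rw [hwdef, polar_add_left, polar_smul_left, polar_comm Q (z : V) a', polar_comm Q (z' : V) a', h3', h4']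
    simp
  have hopp : Opp Q (a' : V) (z' : V) (a : V) (w + r) := by
    refine ⟨⟨?_, ha', hz', h4'⟩, ⟨?_, ha, ?_, ?_⟩, ?_⟩
    · intro p q hpq
      have k1 : polar Q (a : V) (p • (a' : V) + q • (z' : V)) = 0 := by rw [hpq, polar_zero_right]
      have k2 : polar Q (z : V) (p • (a' : V) + q • (z' : V)) = 0 := by rw [hpq, polar_zero_right]
      simp only [polar_add_right, polar_smul_right, smul_eq_mul, haa', h2', hzz', polar_comm Q (z : V) a', h3']
        at k1 k2
      exact ⟨by simpa using k1, by simpa using k2⟩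
    · intro p q hpq
      have k1 : polar Q (a' : V) (p • (a : V) + q • (w + r)) = 0 := by rw [hpq, polar_zero_right]
      have k2 : polar Q (z' : V) (p • (a : V) + q • (w + r)) = 0 := by rw [hpq, polar_zero_right]
      simp only [polar_add_right, polar_smul_right, smul_eq_mul, polar_comm Q (a' : V) a, haa', hra',
        polar_comm Q (a' : V) w, hwa', polar_comm Q (z' : V) a, h2', polar_comm Q (z' : V) w, hwz', hrz'] at k1 k2
      exact ⟨by simpa using k1, by simpa using k2⟩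
    · rw [Q_add, hQw, hrW w hwW]
      simp
    · rw [polar_add_right, haw, hra, add_zero]
    · rw [polar_add_right, polar_add_right, polar_comm Q (a' : V) a, haa', polar_comm Q (z' : V) w, hwz', hrz',
        polar_comm Q (a' : V) w, hwa', hra', polar_comm Q (z' : V) a, h2']
      simp
  have hle : RG Q (a' : V) (z' : V) ≤ J := by
    rw [RG_le_iff hopp.left]
    intro t
    exact hC _ a'.2 ha' _ (hWZ (W.smul_mem _ z'.2)) (by rw [polar_smul_right, h4', smul_zero])
  refine ⟨J ⊔ RG Q (a : V) (w + r), le_sup_left, hP.root hJ hopp hle, ?_⟩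
  set H := hh (J ⊔ RG Q (a : V) (w + r)) with hH
  have hJH : hh J ≤ H := hh_mono le_sup_left
  have s1 : RR Q H (a : V) (w + r) := (RR_RG hopp.right).mono (hh_mono le_sup_right)
  have s2 : RR Q H (a : V) w := fun t =>
    (hC _ a.2 ha _ (hWZ (W.smul_mem _ hwW)) (by rw [polar_smul_right, haw, smul_zero])).mono hJH
  have s3 : RR Q H (a : V) r := by
    have := s1.sub s2
    rwa [add_sub_cancel_left] at this
  have hEY : EY Q W ≤ H := (hC.EY hWZ).trans hJH
  have ha0 : (a : V) ≠ 0 := by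
    intro h0
    rw [h0, polar_zero_left] at haa'
    exact zero_ne_one haa'
  have s4 : ∀ x ∈ W, Q x = 0 → x ≠ 0 → RR Q H x r := by
    intro x hx hx0 hxne
    obtain ⟨g, hg, e⟩ := EY_trans_sing hWG a.2 hx ha hx0 ha0 hxne
    have h5 := s3.map (E_le_O (EY_le_E hg)) (hEY hg)
    have h6 : g r = r := EY_fix hg hrW
    rwa [e, h6] at h5
  intro x hx hx0 y hy hxy
  by_cases hxne : x = 0
  · rw [hxne]
    exact has_zero_left y
  obtain ⟨y₀, hy₀, y₁, hy₁, rfl⟩ := Submodule.mem_sup.1 hy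
  obtain ⟨t, rfl⟩ := Submodule.mem_span_singleton.1 hy₁
  have e1 : y₀ + t • (w₀ + r) = (y₀ + t • w₀) + t • r := by module
  have e2 : polar Q x ((y₀ + t • w₀) + t • r) = polar Q x (y₀ + t • w₀) := by
    have e3 : polar Q x (t • r) = 0 := by rw [polar_smul_right, hrW x hx, smul_zero]
    rw [polar_add_right Q x (y₀ + t • w₀) (t • r), e3, add_zero]
  rw [e1] at hxy ⊢
  rw [e2] at hxy
  exact ((hC x hx hx0 _ (Z.add_mem hy₀ (Z.smul_mem _ (hWZ hw₀))) hxy).mono hJH).add (s4 x hx hx0 hxne t)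

/-- **growth to any subspace** -/
theorem grow_all [Finite F] [FiniteDimensional F V] {P : ℕ → Subgroup ↥(E Q) → Prop} (hP : Growth Q P)
    {W : Submodule F V} (hWN : NondegOn Q W) (hWd : 5 ≤ finrank F W) {k : ℕ} {J : Subgroup ↥(E Q)}
    (hJ : P k J) (hC : EY Q W ≤ hh J) {Z : Submodule F V} (hWZ : W ≤ Z) :
    ∃ J', J ≤ J' ∧ P (k + (finrank F Z - finrank F W)) J' ∧ Cfg Q J' W Z := by
  have key : ∀ m, finrank F W + m ≤ finrank F Z → ∃ (Z' : Submodule F V) (J' : Subgroup ↥(E Q)), W ≤ Z' ∧ Z' ≤ Z ∧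
      finrank F Z' = finrank F W + m ∧ J ≤ J' ∧ P (k + m) J' ∧ Cfg Q J' W Z' := by
    intro m
    induction m with
    | zero => exact fun _ => ⟨W, J, le_rfl, hWZ, rfl, le_rfl, hJ, Cfg.of_EY hC⟩
    | succ m ih =>
      intro hm
      obtain ⟨Z', J', h1, h2, h3, h4, h5, h6⟩ := ih (by omega)
      have hlt : Z' < Z := lt_of_le_of_ne h2 (by rintro rfl; omega)
      obtain ⟨v, hv, hv'⟩ := SetLike.exists_of_lt hlt
      obtain ⟨J'', h7, h8, h9⟩ := grow_one hP hWN hWd h1 h5 h6 v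
      refine ⟨Z' ⊔ Submodule.span F {v}, J'', h1.trans le_sup_left,
        sup_le h2 ((Submodule.span_singleton_le_iff_mem _ _).2 hv), ?_, h4.trans h7, h8, h9⟩
      have a1 : Z' < Z' ⊔ Submodule.span F {v} := by
        refine lt_of_le_of_ne le_sup_left fun h => hv' ?_
        rw [h]
        exact Submodule.mem_sup_right (Submodule.mem_span_singleton_self v)
      have a2 := Submodule.finrank_lt_finrank_of_lt a1
      have a3 := Submodule.finrank_add_le_finrank_add_finrank Z' (Submodule.span F {v})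
      have a4 : finrank F ↥(Submodule.span F {v}) ≤ 1 := by
        have := finrank_span_le_card (R := F) ({v} : Set V)
        simpa using this
      omega
  have h0 := Submodule.finrank_mono hWZ
  obtain ⟨Z', J', h1, h2, h3, h4, h5, h6⟩ := key (finrank F Z - finrank F W) (by omega)
  have h7 : Z' = Z := Submodule.eq_of_le_of_finrank_eq h2 (by omega)
  rw [h7] at h6
  exact ⟨J', h4, h5, h6⟩

/-- **growth to `E Q`** -/
theorem grow_top [Finite F] [FiniteDimensional F V] (hG : Good Q) {P : ℕ → Subgroup ↥(E Q) → Prop}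
    (hP : Growth Q P) {W : Submodule F V} (hWN : NondegOn Q W) (hWd : 5 ≤ finrank F W) {k : ℕ}
    {J : Subgroup ↥(E Q)} (hJ : P k J) (hC : EY Q W ≤ hh J) : P (k + (finrank F V - finrank F W)) ⊤ := by
  obtain ⟨J', -, h1, h2⟩ := grow_all hP hWN hWd hJ hC (Z := ⊤) le_top
  rw [finrank_top] at h1
  refine hP.sub h1 ?_
  have hWG : Good (res Q W) := good_res hWN hWd
  obtain ⟨a, a', haa⟩ := hWG.exists_hyp
  have haa' : polar Q (a : V) a' = 1 := haa.pair
  have h3 : E Q ≤ hh J' := E_le_of_full_pair hG (u := (a : V)) (u' := (a' : V))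
    ⟨haa.left, fun w hw => h2 _ a.2 haa.left w trivial hw⟩
    ⟨haa.right, fun w hw => h2 _ a'.2 haa.right w trivial hw⟩ (by rw [haa']; exact one_ne_zero)
  intro g _
  exact mem_hh.1 (h3 g.2)

/-- **growth to a nondegenerate subspace** -/
theorem grow_EY [Finite F] [FiniteDimensional F V] {P : ℕ → Subgroup ↥(E Q) → Prop}
    (hP : Growth Q P) {W Z : Submodule F V} (hWN : NondegOn Q W) (hWd : 5 ≤ finrank F W) (hZN : NondegOn Q Z)
    (hWZ : W ≤ Z) {k : ℕ} {J : Subgroup ↥(E Q)} (hJ : P k J) (hC : EY Q W ≤ hh J) :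
    ∃ J', J ≤ J' ∧ P (k + (finrank F Z - finrank F W)) J' ∧ EY Q Z ≤ hh J' := by
  obtain ⟨J', h0, h1, h2⟩ := grow_all hP hWN hWd hJ hC hWZ
  refine ⟨J', h0, h1, ?_⟩
  have hWG : Good (res Q W) := good_res hWN hWd
  have hZG : Good (res Q Z) := good_res hZN (hWd.trans (Submodule.finrank_mono hWZ))
  obtain ⟨a, a', haa⟩ := hWG.exists_hyp
  have haa' : polar Q (a : V) a' = 1 := haa.pair
  exact Cfsg.Agent.H922.Om.EY_le_of_full_pair hZN hZG (hWZ a.2) (hWZ a'.2) haa.left haa.right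
    (by rw [haa']; exact one_ne_zero) (fun w hw hw' => h2 _ a.2 haa.left w hw hw')
    (fun w hw hw' => h2 _ a'.2 haa.right w hw hw')

/-- **from the long `SL₂` (with `s` conjugates) to `Ω₆⁺` (with `s + 2`)** -/
theorem grow_six [Finite F] [FiniteDimensional F V] (hG : Good Q) (hd : 7 ≤ finrank F V)
    {P : ℕ → Subgroup ↥(E Q) → Prop} (hP : Growth Q P) {e₁ f₁ e₂ f₂ : V} (h : Four Q e₁ f₁ e₂ f₂) {s : ℕ}
    (hJ : P s (RG Q e₁ f₂ ⊔ RG Q e₂ f₁)) :
    ∃ e₃ f₃, Six Q e₁ f₁ e₂ f₂ e₃ f₃ ∧ ∃ J, RG Q e₁ f₂ ⊔ RG Q e₂ f₁ ≤ J ∧ P (s + 2) J ∧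
      EY Q (Submodule.span F (Set.range ![e₁, f₁, e₂, f₂, e₃, f₃])) ≤ hh J := by
  obtain ⟨e₃, f₃, h6⟩ := exists_six hG hd h
  have ho := four_opp h
  refine ⟨e₃, f₃, h6, _, ?_, hP.root (hP.root hJ (opp_two h6) le_sup_left) (opp_three h6) ?_, ?_⟩
  · exact le_sup_of_le_left le_sup_left
  · rw [RG_le_iff (opp_three h6).left]
    refine (SL3.of_two h6 ?_ ?_ ?_).r13
    · exact (RR_RG ho.left).mono (hh_mono (le_sup_of_le_left le_sup_left))
    · exact (RR_RG ho.right).mono (hh_mono (le_sup_of_le_left le_sup_right))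
    · exact (RR_RG (opp_two h6).right).mono (hh_mono le_sup_right)
  · have h3 : SL3 Q (hh (RG Q e₁ f₂ ⊔ RG Q e₂ f₁ ⊔ RG Q (e₁ + e₂ + e₃) (f₁ - f₃) ⊔
        RG Q (e₁ - e₃ + f₂) (e₂ - f₁))) e₁ f₁ e₂ f₂ e₃ f₃ := by
      refine SL3.of_two h6 ?_ ?_ ?_
      · exact (RR_RG ho.left).mono (hh_mono (le_sup_of_le_left (le_sup_of_le_left le_sup_left)))
      · exact (RR_RG ho.right).mono (hh_mono (le_sup_of_le_left (le_sup_of_le_left le_sup_right)))
      · exact (RR_RG (opp_two h6).right).mono (hh_mono (le_sup_of_le_left le_sup_right))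
    exact h3.full h6 ((RR_RG (opp_three h6).right).mono (hh_mono le_sup_right))

end Cfsg.Agent.H445.Gs
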