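import Cfsg.Agent.H445.AH.OTrans
import Cfsg.Agent.UGT.U2.FOne.OrthJ
import Cfsg.Agent.H915.Gs.Base

/-!
# S4327, orthogonal groups: opposite pairs of long root groups (helper445)

`Q` a good quadratic form, `F` finite, `dim V ≥ 7`, `N` a semisimilarity of `Q`.

* `exists_opp` : there is a totally singular pair `(u, v)` for which the pairing of `⟨u, v⟩` and `⟨N u, N v⟩` is
  nondegenerate, unless `N` is a scalar or a scalar times a reflection.
-/

set_option autoImplicit false
set_option linter.unusedSectionVars false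

namespace Cfsg.Agent.H445.Gs

open QuadraticMap Cfsg.Agent.LieClassical.OrthCore Cfsg.Agent.LieClassical.OrthTrans
  Cfsg.Agent.LieClassical.OrthFinite Cfsg.Agent.H883.Sub Module Cfsg.Agent.H445.AH
  Cfsg.Agent.ClassicalGeometry.OrthSemi

variable {F V : Type*} [Field F] [AddCommGroup V] [Module F V] {Q : QuadraticForm F V}

/-- the determinant of the pairing of `⟨u, v⟩` and `⟨N u, N v⟩` -/
def DD (Q : QuadraticForm F V) (N : V → V) (u v : V) : F :=
  polar Q u (N u) * polar Q v (N v) - polar Q u (N v) * polar Q v (N u)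

theorem exists_TS2' [Finite F] [FiniteDimensional F V] (hG : Good Q) : ∃ u v, TS2 Q u v := by
  obtain ⟨u, hu0, hu⟩ := hG.sing
  obtain ⟨v, hv⟩ := exists_TS2 hG.nondeg hG.dim hu hu0
  exact ⟨u, v, hv⟩

/-- **A semilinear map fixing all singular points is linear and a scalar.** -/
theorem scalar_of_sing [Finite F] [FiniteDimensional F V] (hG : Good Q) {σ : F ≃+* F} {n : V → V}
    (hadd : ∀ u v, n (u + v) = n u + n v) (hsmul : ∀ (a : F) v, n (a • v) = σ a • n v)
    (hinj : ∀ v, n v = 0 → v = 0) (h : ∀ v, Q v = 0 → ∃ k : F, n v = k • v) :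
    (∀ t, σ t = t) ∧ ∃ k : F, k ≠ 0 ∧ ∀ v, n v = k • v := by
  have hσ : ∀ t, σ t = t := by
    intro t
    obtain ⟨v, w, hvw⟩ := exists_TS2' hG
    have key : ∀ s : F, ∃ a b e : F, n v = a • v ∧ n w = b • w ∧ a = e ∧ σ s * b = e * s := by
      intro s
      obtain ⟨a, ha⟩ := h v hvw.hu
      obtain ⟨b, hb⟩ := h w hvw.hv
      have hs : Q (v + s • w) = 0 := by
        rw [Q_add, QuadraticMap.map_smul, polar_smul_right, hvw.hu, hvw.hv, hvw.huv]
        simp
      obtain ⟨e, he⟩ := h _ hs
      rw [hadd, hsmul, ha, hb] at he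
      have h1 : (a - e) • v + (σ s * b - e * s) • w = 0 := by
        calc _ = (a • v + σ s • b • w) - e • (v + s • w) := by module
          _ = 0 := by rw [he, sub_self]
      obtain ⟨h2, h3⟩ := hvw.ind _ _ h1
      exact ⟨a, b, e, ha, hb, sub_eq_zero.1 h2, sub_eq_zero.1 h3⟩
    obtain ⟨a, b, e, ha, hb, h1, h2⟩ := key t
    obtain ⟨a', b', e', ha', hb', h1', h2'⟩ := key 1
    have cancel : ∀ {z : V} {a b : F}, z ≠ 0 → a • z = b • z → a = b := by
      intro z a b hz hab
      have h1 : (a - b) • z = 0 := by rw [sub_smul, hab, sub_self]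
      rcases smul_eq_zero.1 h1 with h2 | h2
      · exact sub_eq_zero.1 h2
      · exact absurd h2 hz
    have e1 : a = a' := cancel hvw.ne_left (ha.symm.trans ha')
    have e2 : b = b' := cancel hvw.ne_right (hb.symm.trans hb')
    rw [map_one, one_mul, mul_one] at h2'
    have e3 : b = a := by rw [e2, h2', ← h1', e1]
    have ha0 : a ≠ 0 := by
      rintro rfl
      rw [zero_smul] at ha
      exact hvw.ne_left (hinj _ ha)
    rw [e3, ← h1] at h2
    exact mul_right_cancel₀ ha0 (h2.trans (mul_comm a t))
  refine ⟨hσ, ?_⟩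
  let n' : V →ₗ[F] V :=
    { toFun := n
      map_add' := hadd
      map_smul' := fun a v => by rw [hsmul, hσ]; rfl }
  obtain ⟨k, hk⟩ := scalar_of_fix hG (n := n') h
  refine ⟨k, ?_, hk⟩
  rintro rfl
  obtain ⟨u, hu0, -⟩ := hG.sing
  apply hu0
  apply hinj
  have := hk u
  rw [zero_smul] at this
  exact this

/-- the space orthogonal to two vectors -/
def P2 (Q : QuadraticForm F V) (x y : V) : Submodule F V :=
  LinearMap.ker (polarBilin Q x) ⊓ LinearMap.ker (polarBilin Q y)

theorem mem_P2 {x y v : V} : v ∈ P2 Q x y ↔ polar Q x v = 0 ∧ polar Q y v = 0 := Iff.rfl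

theorem finrank_P2 [FiniteDimensional F V] (x y : V) : finrank F V ≤ finrank F ↥(P2 Q x y) + 2 := by
  have h1 := finrank_inf_polar (Q := Q) (⊤ : Submodule F V) x
  have h2 := finrank_inf_polar (Q := Q) ((⊤ : Submodule F V) ⊓ LinearMap.ker (polarBilin Q x)) y
  rw [finrank_top] at h1
  rw [top_inf_eq] at h1 h2
  unfold P2
  omega

/-- the projection to the orthogonal complement of a hyperbolic pair -/
theorem proj_mem_P2 {x y : V} (h : Hyp Q x y) (v : V) : v - polar Q y v • x - polar Q x v • y ∈ P2 Q x y := by
  rw [mem_P2]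
  constructor
  · rw [polar_sub_right, polar_sub_right, polar_smul_right, polar_smul_right, h.polar_left, h.pair]
    simp
  · rw [polar_sub_right, polar_sub_right, polar_smul_right, polar_smul_right, h.polar_right, h.pair']
    simp

theorem nondegOn_P2 (hQ : Nondeg Q) {x y : V} (h : Hyp Q x y) : NondegOn Q (P2 Q x y) := by
  intro v hv hv'
  apply hQ
  intro z
  have h1 := hv' _ (proj_mem_P2 h z)
  rw [mem_P2] at hv
  rw [polar_sub_right, polar_sub_right, polar_smul_right, polar_smul_right, polar_comm Q v x, polar_comm Q v y,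
    hv.1, hv.2] at h1
  simpa using h1

theorem TS2.of_res {W : Submodule F V} {x y : W} (h : TS2 (res Q W) x y) : TS2 Q (x : V) (y : V) where
  ind a b hab := h.ind a b (Subtype.ext hab)
  hu := h.hu
  hv := h.hv
  huv := h.huv

/-- a pair for which the pairing vanishes on the diagonal -/
theorem off_zero {N : V → V} (hadd : ∀ u v, N (u + v) = N u + N v) {v w : V}
    (hD : DD Q N v w = 0) (h1 : polar Q v (N v) = 0) (h2 : polar Q w (N w) = 0)
    (h3 : polar Q (v + w) (N (v + w)) = 0) : polar Q w (N v) = 0 := by
  rw [hadd, polar_add_left, polar_add_right, polar_add_right, h1, h2, zero_add, add_zero] at h3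
  rw [DD, h1, zero_mul, zero_sub, neg_eq_zero] at hD
  have h4 : polar Q v (N w) = -polar Q w (N v) := by linear_combination h3
  rw [h4, neg_mul, neg_eq_zero, mul_self_eq_zero] at hD
  exact hD

theorem TS2.sing_add {v w : V} (h : TS2 Q v w) : Q (v + w) = 0 := by
  rw [Q_add, h.hu, h.hv, h.huv]
  simp

/-- **Opposite pairs.** -/
theorem exists_opp [Finite F] [FiniteDimensional F V] (hG : Good Q) (hd : 7 ≤ finrank F V) {σ : F ≃+* F} {c : F}
    {N : Equiv.Perm V} (h : IsSS Q σ c N) :
    (∃ u v, TS2 Q u v ∧ DD Q N u v ≠ 0) ∨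
      ((∀ t, σ t = t) ∧ ∃ k : F, k ≠ 0 ∧ ∀ v, N v = k • v) ∨
      ((∀ t, σ t = t) ∧ ∃ (k : F) (w : V) (hw : Q w ≠ 0), k ≠ 0 ∧ ∀ v, N v = k • refl Q w hw v) := by
  by_contra hcon
  push Not at hcon
  obtain ⟨hD, hsc, hrf⟩ := hcon
  by_cases ha : ∀ u, Q u = 0 → polar Q u (N u) = 0
  · -- all diagonal values vanish
    have h1 : ∀ v, Q v = 0 → ∃ k : F, N v = k • v := by
      intro v hv
      by_cases hv0 : v = 0
      · exact ⟨0, by rw [hv0, h.map_zero, smul_zero]⟩
      refine mem_span_of_TS2 hG.nondeg hG.dim hv hv0 fun w hw => ?_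
      exact off_zero h.add (hD v w hw) (ha v hv) (ha w hw.hv) (ha _ (TS2.sing_add hw))
    obtain ⟨h2, k, hk, h3⟩ := scalar_of_sing hG h.add h.smul (fun v hv => by
      apply N.injective
      rw [hv, h.map_zero]) h1
    obtain ⟨v, hv⟩ := hsc h2 k hk
    exact hv (h3 v)
  · push Not at ha
    obtain ⟨u, hu, hc0⟩ := ha
    set c0 := polar Q u (N u) with hc0def
    obtain ⟨f, hf⟩ : ∃ f, f = c0⁻¹ • N u := ⟨_, rfl⟩
    have hNu : N u = c0 • f := by rw [hf, smul_smul, mul_inv_cancel₀ hc0, one_smul]
    have hQNu : Q (N u) = 0 := by rw [h.form, hu, map_zero, mul_zero]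
    have hyp : Hyp Q u f := by
      refine ⟨hu, ?_, ?_⟩
      · rw [hf, QuadraticMap.map_smul, hQNu, smul_zero]
      · rw [hf, polar_smul_right, smul_eq_mul, ← hc0def, inv_mul_cancel₀ hc0]
    set W := P2 Q u f with hW
    have hWN : NondegOn Q W := nondegOn_P2 hG.nondeg hyp
    have hWd : 5 ≤ finrank F W := by
      have := finrank_P2 (Q := Q) u f
      rw [← hW] at this
      omega
    have hWG : Good (res Q W) := good_res hWN hWd
    -- the semisimilarity of `W`
    have hfN : ∀ w ∈ W, polar Q f (N w) = 0 := by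
      intro w hw
      rw [hf, polar_smul_left, h.polar, (mem_P2.1 hw).1, map_zero, mul_zero, smul_zero]
    have hmem : ∀ w ∈ W, N w - polar Q u (N w) • f ∈ W := by
      intro w hw
      have h1 := proj_mem_P2 hyp (N w)
      rwa [hfN w hw, zero_smul, sub_zero] at h1
    let n : W → W := fun w => ⟨N w - polar Q u (N w) • f, hmem w w.2⟩
    have hn : ∀ w : W, (n w : V) = N w - polar Q u (N w) • f := fun w => rfl
    have hnp : ∀ w z : W, polar Q (n w : V) (n z : V) = c * σ (polar Q (w : V) (z : V)) := by
      intro w z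
      rw [hn, hn, polar_sub_left, polar_sub_right, polar_sub_right, polar_smul_left, polar_smul_left,
        polar_smul_right, polar_smul_right, polar_comm Q (N w) f, hfN _ w.2, hfN _ z.2, hyp.polar_right, h.polar]
      simp
    have hnadd : ∀ w z, n (w + z) = n w + n z := by
      intro w z
      apply Subtype.ext
      rw [Submodule.coe_add, hn, hn, hn, Submodule.coe_add, h.add, polar_add_right]
      module
    have hnsmul : ∀ (a : F) w, n (a • w) = σ a • n w := by
      intro a w
      apply Subtype.ext
      rw [Submodule.coe_smul, hn, hn, Submodule.coe_smul, h.smul, polar_smul_right, smul_eq_mul]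
      module
    have hninj : ∀ w, n w = 0 → w = 0 := by
      intro w hw
      apply Subtype.ext
      refine hWN w w.2 fun z hz => ?_
      have h1 := hnp w ⟨z, hz⟩
      rw [hw] at h1
      have h2 : c * σ (polar Q (w : V) z) = 0 := by
        rw [← h1]
        show polar Q (0 : V) _ = 0
        exact polar_zero_left Q _
      have h3 := (mul_eq_zero.1 h2).resolve_left h.ne
      simpa using h3
    have hnfix : ∀ w : W, res Q W w = 0 → ∃ k : F, n w = k • w := by
      intro w hw
      by_cases hw0 : w = 0
      · refine ⟨0, ?_⟩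
        rw [hw0, zero_smul]
        apply Subtype.ext
        rw [hn]
        simp [h.map_zero]
      have hdiag : ∀ z : W, Q (z : V) = 0 → polar Q (z : V) (N z) = 0 := by
        intro z hz
        by_cases hz0 : (z : V) = 0
        · rw [hz0, polar_zero_left]
        have hT : TS2 Q u (z : V) := by
          refine ⟨?_, hu, hz, (mem_P2.1 z.2).1⟩
          intro a b hab
          have h1 : polar Q f (a • u + b • (z : V)) = 0 := by rw [hab, polar_zero_right]
          rw [polar_add_right, polar_smul_right, polar_smul_right, hyp.pair', (mem_P2.1 z.2).2] at h1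
          have ha0 : a = 0 := by simpa using h1
          rw [ha0, zero_smul, zero_add] at hab
          exact ⟨ha0, (smul_eq_zero.1 hab).resolve_right hz0⟩
        have h1 := hD _ _ hT
        have h2 : polar Q (z : V) (N u) = 0 := by
          rw [hNu, polar_smul_right, polar_comm, (mem_P2.1 z.2).2, smul_zero]
        rw [DD, h2, mul_zero, sub_zero] at h1
        exact (mul_eq_zero.1 h1).resolve_left hc0
      refine mem_span_of_TS2 hWG.nondeg hWG.dim hw hw0 fun z hz => ?_
      have hz' := TS2.of_res hz
      have h1 := off_zero h.add (hD _ _ hz') (hdiag w hz'.hu) (hdiag z hz'.hv)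
        (hdiag (w + z) (TS2.sing_add hz'))
      show polar Q (z : V) (n w : V) = 0
      rw [hn, polar_sub_right, polar_smul_right, polar_comm Q (z : V) f, (mem_P2.1 z.2).2, h1]
      simp
    obtain ⟨hσ, α, hα, hnα⟩ := scalar_of_sing hWG hnadd hnsmul hninj hnfix
    have hNw : ∀ w ∈ W, N w = α • w + polar Q u (N w) • f := by
      intro w hw
      have h1 := congrArg Subtype.val (hnα ⟨w, hw⟩)
      rw [hn] at h1
      have h2 : N w - polar Q u (N w) • f = α • w := h1
      rw [← h2]
      module
    have hpol : ∀ x y, polar Q (N x) (N y) = c * polar Q x y := fun x y => by rw [h.polar, hσ]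
    -- multiplier
    obtain ⟨x1, y1, hx1⟩ := hWG.exists_hyp
    have hcα : c = α * α := by
      have h1 := hnp x1 y1
      have h2 : polar Q (x1 : V) (y1 : V) = 1 := hx1.pair
      have h3 : polar Q (n x1 : V) (n y1 : V) = α * α := by
        rw [hnα, hnα, Submodule.coe_smul, Submodule.coe_smul, polar_smul_left, polar_smul_right, h2]
        simp
      rw [h3, h2, map_one, mul_one] at h1
      exact h1.symm
    obtain ⟨a, hadef⟩ : ∃ a, a = polar Q f (N f) := ⟨_, rfl⟩
    obtain ⟨b, hbdef⟩ : ∃ b, b = polar Q u (N f) := ⟨_, rfl⟩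
    obtain ⟨d, hddef⟩ : ∃ d, d = N f - a • u - b • f := ⟨_, rfl⟩
    have hdW : d ∈ W := by
      rw [hddef, hadef, hbdef]
      exact proj_mem_P2 hyp (N f)
    have hNf : N f = a • u + b • f + d := by rw [hddef]; module
    have hac : c0 * a = c := by
      have h1 := hpol u f
      rw [hyp.pair, mul_one, hNu, polar_smul_left, smul_eq_mul, ← hadef] at h1
      exact h1
    have ha0 : a ≠ 0 := by
      intro h0
      rw [h0, mul_zero] at hac
      exact h.ne hac.symm
    have hab : a * b + Q d = 0 := by
      have h1 := h.form f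
      rw [hyp.right, map_zero, mul_zero, hNf, Q_add, Q_add, QuadraticMap.map_smul, QuadraticMap.map_smul,
        polar_smul_left, polar_smul_right, polar_add_left, polar_smul_left, polar_smul_left, hyp.left, hyp.right,
        hyp.pair, (mem_P2.1 hdW).1, (mem_P2.1 hdW).2] at h1
      simp only [smul_eq_mul, mul_zero, add_zero, zero_add, mul_one] at h1
      exact h1
    have hψ : ∀ w ∈ W, polar Q u (N w) * a = -(α * polar Q w d) := by
      intro w hw
      have h1 := hpol w f
      have h2 : polar Q w f = 0 := by rw [polar_comm]; exact (mem_P2.1 hw).2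
      have h3 : polar Q w u = 0 := by rw [polar_comm]; exact (mem_P2.1 hw).1
      rw [h2, mul_zero, hNw w hw, hNf] at h1
      simp only [polar_add_left, polar_add_right, polar_smul_left, polar_smul_right, h2, h3, hyp.pair',
        hyp.polar_right, (mem_P2.1 hdW).2, smul_eq_mul, mul_zero, mul_one, add_zero, zero_add] at h1
      linear_combination h1
    by_cases hd0 : d = 0
    · -- a reflection
      have hb0 : b = 0 := by
        rw [hd0, QuadraticMap.map_zero, add_zero] at hab
        exact (mul_eq_zero.1 hab).resolve_left ha0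
      have hψ0 : ∀ w ∈ W, N w = α • w := by
        intro w hw
        have h1 := hψ w hw
        rw [hd0, polar_zero_right, mul_zero, neg_zero] at h1
        have h2 := (mul_eq_zero.1 h1).resolve_right ha0
        have h3 := hNw w hw
        rw [h2, zero_smul, add_zero] at h3
        exact h3
      have hNf' : N f = a • u := by rw [hNf, hb0, hd0]; module
      obtain ⟨κ, hκ⟩ : ∃ κ, κ = c0 * α⁻¹ := ⟨_, rfl⟩
      have hκ0 : κ ≠ 0 := by rw [hκ]; exact mul_ne_zero hc0 (inv_ne_zero hα)
      have hQr : Q (u - κ • f) = -κ := by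
        rw [sub_eq_add_neg, ← neg_smul, Q_add, QuadraticMap.map_smul, polar_smul_right, hyp.left, hyp.right,
          hyp.pair]
        simp
      have hQr0 : Q (u - κ • f) ≠ 0 := by rw [hQr]; exact neg_ne_zero.2 hκ0
      obtain ⟨v, hv⟩ := hrf hσ α (u - κ • f) hQr0 hα
      apply hv
      -- decomposition
      have hw : v - polar Q f v • u - polar Q u v • f ∈ W := proj_mem_P2 hyp v
      obtain ⟨w, hwdef⟩ : ∃ w, w = v - polar Q f v • u - polar Q u v • f := ⟨_, rfl⟩
      rw [← hwdef] at hw
      have hv' : v = polar Q f v • u + polar Q u v • f + w := by rw [hwdef]; module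
      have e1 : N v = polar Q f v • (c0 • f) + polar Q u v • (a • u) + α • w := by
        conv_lhs => rw [hv']
        rw [h.add, h.add, h.smul, h.smul, hσ, hσ, hNu, hNf', hψ0 w hw]
      have e2 : polar Q (u - κ • f) v = polar Q u v - κ * polar Q f v := by
        rw [polar_sub_left, polar_smul_left, smul_eq_mul]
      have e3 : α * κ = c0 := by rw [hκ]; field_simp
      have e4 : α * κ⁻¹ = a := by
        have h5 : κ * a = α := by
          rw [hκ]
          have : c0 * a = α * α := hac.trans hcα
          field_simp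
          linear_combination this
        rw [← h5]
        field_simp
      have e5 : (-κ)⁻¹ * (polar Q u v - κ * polar Q f v) = polar Q f v - polar Q u v * κ⁻¹ := by
        rw [inv_neg]
        field_simp
        ring
      rw [refl_apply, e2, hQr, e5, e1]
      have e6 : α • (v - (polar Q f v - polar Q u v * κ⁻¹) • (u - κ • f)) =
          α • (polar Q f v • u + polar Q u v • f + w - (polar Q f v - polar Q u v * κ⁻¹) • (u - κ • f)) := by
        rw [← hv']
      rw [e6]
      generalize polar Q f v = p at *
      generalize polar Q u v = r at *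
      have e7 : α • (p • u + r • f + w - (p - r * κ⁻¹) • (u - κ • f)) =
          (r * (α * κ⁻¹)) • u + (p * (α * κ)) • f + (α * r * (1 - κ⁻¹ * κ)) • f + α • w := by module
      rw [e7, e3, e4, inv_mul_cancel₀ hκ0, sub_self, mul_zero, zero_smul, add_zero]
      module
    · -- an opposite pair
      obtain ⟨w2', hw2', hw2d'⟩ := exists_sing_polar_one hWG.nondeg hx1 (v := ⟨d, hdW⟩) (fun h0 =>
        hd0 (congrArg Subtype.val h0))
      obtain ⟨w2, hw2W⟩ := w2'
      have hw2 : Q w2 = 0 := hw2'
      have hw2d : polar Q w2 d = 1 := hw2d'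
      have hw20 : w2 ≠ 0 := by
        rintro rfl
        rw [polar_zero_left] at hw2d
        exact zero_ne_one hw2d
      obtain ⟨y2, hy2⟩ := exists_hyp hWG.nondeg hw2' (fun h0 => hw20 (congrArg Subtype.val h0))
      obtain ⟨z3, w3, hzw, h31, h32, -, -⟩ := hWG.exists_hyp2 hy2
      set w1 : V := (z3 : V) + (w3 : V) with hw1def
      have hw1W : w1 ∈ W := W.add_mem z3.2 w3.2
      have hw1 : Q w1 = 1 := by
        have e1 : Q (z3 : V) = 0 := hzw.left
        have e2 : Q (w3 : V) = 0 := hzw.right
        have e3 : polar Q (z3 : V) (w3 : V) = 1 := hzw.pair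
        rw [hw1def, Q_add, e1, e2, e3]
        simp
      have hw21 : polar Q w2 w1 = 0 := by
        have e1 : polar Q w2 (z3 : V) = 0 := h31
        have e2 : polar Q w2 (w3 : V) = 0 := h32
        rw [hw1def, polar_add_right, e1, e2, add_zero]
      have hfw1 : polar Q f w1 = 0 := (mem_P2.1 hw1W).2
      have huw1 : polar Q u w1 = 0 := (mem_P2.1 hw1W).1
      have hfw2 : polar Q f w2 = 0 := (mem_P2.1 hw2W).2
      have huw2 : polar Q u w2 = 0 := (mem_P2.1 hw2W).1
      have hT : TS2 Q (u + (-1 : F) • f + w1) w2 := by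
        refine ⟨?_, ?_, hw2, ?_⟩
        · intro a' b' hab'
          have h1 : polar Q f (a' • (u + (-1 : F) • f + w1) + b' • w2) = 0 := by rw [hab', polar_zero_right]
          simp only [polar_add_right, polar_smul_right, hyp.pair', hyp.polar_right, hfw1, hfw2, smul_eq_mul,
            mul_zero, mul_one, add_zero] at h1
          rw [h1, zero_smul, zero_add] at hab'
          exact ⟨h1, (smul_eq_zero.1 hab').resolve_right hw20⟩
        · rw [Q_add, Q_add, QuadraticMap.map_smul, hyp.left, hyp.right, hw1]
          simp only [polar_add_left, polar_smul_left, polar_smul_right, hyp.pair, huw1, hfw1, smul_eq_mul,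
            mul_zero, mul_one, add_zero, zero_add]
          ring
        · rw [polar_add_left, polar_add_left, polar_smul_left, huw2, hfw2, polar_comm Q w1 w2, hw21]
          simp
      have h1 := hD _ _ hT
      have hNw2 := hNw w2 hw2W
      have hψ2 := hψ w2 hw2W
      rw [hw2d, mul_one] at hψ2
      have hp2 : polar Q u (N w2) ≠ 0 := by
        intro h0
        rw [h0, zero_mul] at hψ2
        exact hα (neg_eq_zero.1 hψ2.symm)
      have hw2u : polar Q w2 u = 0 := by rw [polar_comm]; exact huw2
      have hw2f : polar Q w2 f = 0 := by rw [polar_comm]; exact hfw2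
      have hw2w2 : polar Q w2 w2 = 0 := polar_self_of_sing hw2
      have hw12 : polar Q w1 w2 = 0 := by rw [polar_comm]; exact hw21
      have hw1f : polar Q w1 f = 0 := by rw [polar_comm]; exact hfw1
      have A22 : polar Q w2 (N w2) = 0 := by
        rw [hNw2, polar_add_right, polar_smul_right, polar_smul_right, hw2w2, hw2f]
        simp
      have A21 : polar Q w2 (N (u + (-1 : F) • f + w1)) = -1 := by
        rw [h.add, h.add, h.smul, hσ, hNu, hNf, hNw w1 hw1W]
        simp only [polar_add_right, polar_smul_right, hw2f, hw2u, hw2d, hw21, smul_eq_mul, mul_zero, mul_one,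
          add_zero, zero_add]
      have A12 : polar Q (u + (-1 : F) • f + w1) (N w2) = polar Q u (N w2) := by
        rw [polar_add_left, polar_add_left, polar_smul_left]
        have e1 : polar Q f (N w2) = 0 := hfN w2 hw2W
        have e2 : polar Q w1 (N w2) = 0 := by
          rw [hNw2, polar_add_right, polar_smul_right, polar_smul_right, hw12, hw1f]
          simp
        rw [e1, e2]
        simp
      rw [DD, A22, A21, A12] at h1
      apply hp2
      linear_combination h1

end Cfsg.Agent.H445.Gs
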