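import Cfsg.Agent.H445.Gs.Opp
import Cfsg.Agent.H922.OmBlock
import Cfsg.Agent.H915.Gs.Chain

/-!
# S4327, orthogonal groups: root groups, transitivity on opposite pairs, one more conjugate (helper445)

* `RG Q a b : Subgroup ↥(E Q)` : the long root group of the totally singular line `⟨a, b⟩`;
* `Opp Q a b a' b'` : opposite lines;
* `four_trans` : `E Q` is transitive on pairs of orthogonal hyperbolic pairs (`dim V ≥ 6`);
* `reach_root` : one more conjugate adds any root group opposite to a root group already reached;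
* `exists_psi` : from an opposite pair `X`, `a X` to the data of `SL2W`.
-/

set_option autoImplicit false
set_option linter.unusedSectionVars false

namespace Cfsg.Agent.H445.Gs

open QuadraticMap Cfsg.Agent.LieClassical.OrthCore Cfsg.Agent.LieClassical.OrthTrans
  Cfsg.Agent.LieClassical.OrthFinite Cfsg.Agent.H883.Sub Cfsg.Agent.H883.Root Module Cfsg.Agent.H445.AH
  Cfsg.Agent.ClassicalGeometry.OrthSemi Cfsg.Agent.UGT.U2.FOne.Orth Cfsg.Agent.H915.Gs

open Cfsg.Agent.LieClassical.SLTwoUnipotent (u l eq_top_of_u_mem_of_l_mem)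

variable {F V : Type*} [Field F] [AddCommGroup V] [Module F V] {Q : QuadraticForm F V}

/-- the long root group of the line `⟨a, b⟩` -/
def RG (Q : QuadraticForm F V) (a b : V) : Subgroup ↥(E Q) :=
  Subgroup.closure {g | ∃ t : F, ∀ v, (g : V ≃ₗ[F] V) v = tl Q a (t • b) v}

theorem mem_RG {a b : V} {g : ↥(E Q)} (t : F) (h : ∀ v, (g : V ≃ₗ[F] V) v = tl Q a (t • b) v) : g ∈ RG Q a b :=
  Subgroup.subset_closure ⟨t, h⟩

theorem RG_le {a b : V} {J : Subgroup ↥(E Q)}
    (h : ∀ (g : ↥(E Q)) (t : F), (∀ v, (g : V ≃ₗ[F] V) v = tl Q a (t • b) v) → g ∈ J) : RG Q a b ≤ J := by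
  rw [RG, Subgroup.closure_le]
  rintro g ⟨t, ht⟩
  exact h g t ht

/-- the root group depends only on the line -/
theorem RG_comb (a b : V) {p r p' r' : F} (h : p * r' - r * p' ≠ 0) :
    RG Q (p • a + r • b) (p' • a + r' • b) = RG Q a b := by
  apply le_antisymm
  · refine RG_le fun g t ht => mem_RG (t * (p * r' - r * p')) fun v => ?_
    rw [ht, tl_comb']
  · refine RG_le fun g t ht => mem_RG (t * (p * r' - r * p')⁻¹) fun v => ?_
    rw [ht, tl_comb', mul_assoc, inv_mul_cancel₀ h, mul_one]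

theorem RG_swap (a b : V) : RG Q a b = RG Q b a := by
  have h := RG_comb (Q := Q) a b (p := 0) (r := 1) (p' := 1) (r' := 0) (by simp)
  simpa using h.symm

/-- conjugation -/
theorem cj_RG (g : ↥(E Q)) (a b : V) :
    cj g (RG Q a b) = RG Q ((g : V ≃ₗ[F] V) a) ((g : V ≃ₗ[F] V) b) := by
  have key : ∀ (g : ↥(E Q)) (a b : V),
      cj g (RG Q a b) ≤ RG Q ((g : V ≃ₗ[F] V) a) ((g : V ≃ₗ[F] V) b) := by
    intro g a b
    rw [cj, Subgroup.map_le_iff_le_comap]
    refine RG_le fun x t hx => ?_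
    rw [Subgroup.mem_comap]
    refine mem_RG t fun v => ?_
    have h1 : ((MulAut.conj g x : ↥(E Q)) : V ≃ₗ[F] V) v =
        (g : V ≃ₗ[F] V) ((x : V ≃ₗ[F] V) ((g : V ≃ₗ[F] V).symm v)) := rfl
    have h2 : v = (g : V ≃ₗ[F] V) ((g : V ≃ₗ[F] V).symm v) := (LinearEquiv.apply_symm_apply _ _).symm
    show ((MulAut.conj g x : ↥(E Q)) : V ≃ₗ[F] V) v = _
    rw [h1, hx, O_map_tl (E_le_O g.2), map_smul, ← h2]
  refine le_antisymm (key g a b) ?_
  have h1 := Subgroup.map_mono (f := (MulAut.conj g).toMonoidHom)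
    (key g⁻¹ ((g : V ≃ₗ[F] V) a) ((g : V ≃ₗ[F] V) b))
  rw [← cj, ← cj, cj_cj, mul_inv_cancel, cj_one] at h1
  have h2 : ∀ v, ((g⁻¹ : ↥(E Q)) : V ≃ₗ[F] V) ((g : V ≃ₗ[F] V) v) = v :=
    fun v => LinearEquiv.symm_apply_apply (g : V ≃ₗ[F] V) v
  rwa [h2, h2] at h1

/-- the image of a root group under a semisimilarity -/
theorem im_RG (M : Gam Q) (a b : V) : im (conjE Q M) (RG Q a b) = RG Q (M.1 a) (M.1 b) := by
  have key : ∀ (M : Gam Q) (a b : V), im (conjE Q M) (RG Q a b) ≤ RG Q (M.1 a) (M.1 b) := by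
    intro M a b
    obtain ⟨σ, c, hM⟩ := M.2
    rw [im, Subgroup.map_le_iff_le_comap]
    refine RG_le fun x t hx => ?_
    rw [Subgroup.mem_comap]
    refine mem_RG (c⁻¹ * σ t) fun v => ?_
    have h1 : ((conjE Q M x : ↥(E Q)) : V ≃ₗ[F] V) v = M.1 ((x : V ≃ₗ[F] V) (M.1⁻¹ v)) := rfl
    show ((conjE Q M x : ↥(E Q)) : V ≃ₗ[F] V) v = _
    rw [h1, hx, Cfsg.Agent.UGT.U2.FOne.Orth.IsSS.map_tl hM, hM.smul, apply_inv, mul_smul]
  refine le_antisymm (key M a b) ?_
  have h1 := Subgroup.map_mono (f := (conjE Q M).toMonoidHom) (key M⁻¹ (M.1 a) (M.1 b))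
  have h2 : ∀ J : Subgroup ↥(E Q), (im (conjE Q M⁻¹) J).map (conjE Q M).toMonoidHom = J := by
    intro J
    rw [im, Subgroup.map_map]
    have : ((conjE Q M).toMonoidHom.comp (conjE Q M⁻¹).toMonoidHom) = MonoidHom.id ↥(E Q) := by
      ext1 x
      show conjE Q M (conjE Q M⁻¹ x) = x
      rw [map_inv, MulAut.apply_inv_self]
    rw [this, Subgroup.map_id]
  rw [h2] at h1
  have h3 : ∀ v, (M⁻¹ : Gam Q).1 (M.1 v) = v := fun v => inv_apply M.1 v
  rwa [h3, h3] at h1

/-! ### Opposite lines -/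

/-- the lines `⟨a, b⟩` and `⟨a', b'⟩` are totally singular and opposite -/
structure Opp (Q : QuadraticForm F V) (a b a' b' : V) : Prop where
  left : TS2 Q a b
  right : TS2 Q a' b'
  det : polar Q a a' * polar Q b b' - polar Q a b' * polar Q b a' ≠ 0

theorem Opp.symm {a b a' b' : V} (h : Opp Q a b a' b') : Opp Q a' b' a b where
  left := h.right
  right := h.left
  det := by
    rw [polar_comm Q a' a, polar_comm Q b' b, polar_comm Q a' b, polar_comm Q b' a]
    intro h0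
    exact h.det (by linear_combination h0)

theorem Opp.map {a b a' b' : V} (h : Opp Q a b a' b') {g : V ≃ₗ[F] V} (hg : g ∈ O Q) :
    Opp Q (g a) (g b) (g a') (g b') := by
  have key : ∀ {x y : V}, TS2 Q x y → TS2 Q (g x) (g y) := by
    intro x y hxy
    refine ⟨?_, by rw [hg]; exact hxy.hu, by rw [hg]; exact hxy.hv, by rw [polar_map hg]; exact hxy.huv⟩
    intro p r hpr
    apply hxy.ind
    apply g.injective
    rw [map_add, map_smul, map_smul, hpr, map_zero]
  exact ⟨key h.left, key h.right, by simpa only [polar_map hg] using h.det⟩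

/-- two orthogonal hyperbolic pairs from an opposite pair of lines -/
theorem Opp.four {a b a' b' : V} (h : Opp Q a b a' b') :
    ∃ f₁ e₂, Four Q a f₁ e₂ b ∧ RG Q e₂ f₁ = RG Q a' b' ∧
      e₂ = (-(polar Q a b' * (polar Q a a' * polar Q b b' - polar Q a b' * polar Q b a')⁻¹)) • a' +
        (polar Q a a' * (polar Q a a' * polar Q b b' - polar Q a b' * polar Q b a')⁻¹) • b' ∧
      f₁ = (polar Q b b' * (polar Q a a' * polar Q b b' - polar Q a b' * polar Q b a')⁻¹) • a' +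
        (-(polar Q b a' * (polar Q a a' * polar Q b b' - polar Q a b' * polar Q b a')⁻¹)) • b' := by
  obtain ⟨D, hD⟩ : ∃ D, D = polar Q a a' * polar Q b b' - polar Q a b' * polar Q b a' := ⟨_, rfl⟩
  have hD0 : D ≠ 0 := by rw [hD]; exact h.det
  rw [← hD]
  have haa : polar Q a' a' = 0 := polar_self_of_sing h.right.hu
  have hbb : polar Q b' b' = 0 := polar_self_of_sing h.right.hv
  have hab := h.right.huv
  have hba : polar Q b' a' = 0 := h.right.swap.huv
  have h1 := h.right.hu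
  have h2 := h.right.hv
  refine ⟨_, _, ⟨⟨h.left.hu, ?_, ?_⟩, ⟨?_, h.left.hv, ?_⟩, ?_, h.left.huv, ?_, ?_⟩, ?_, rfl, rfl⟩
  · rw [Q_add, QuadraticMap.map_smul, QuadraticMap.map_smul, polar_smul_left, polar_smul_right, h1, h2, hab]
    simp
  · rw [polar_add_right, polar_smul_right, polar_smul_right, smul_eq_mul, smul_eq_mul]
    field_simp
    rw [hD]
    ring
  · rw [Q_add, QuadraticMap.map_smul, QuadraticMap.map_smul, polar_smul_left, polar_smul_right, h1, h2, hab]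
    simp
  · rw [polar_add_left, polar_smul_left, polar_smul_left, smul_eq_mul, smul_eq_mul, polar_comm Q a' b,
      polar_comm Q b' b]
    field_simp
    rw [hD]
    ring
  · rw [polar_add_right, polar_smul_right, polar_smul_right, smul_eq_mul, smul_eq_mul]
    ring
  · simp only [polar_add_left, polar_add_right, polar_smul_left, polar_smul_right, smul_eq_mul, haa, hbb, hab, hba]
    ring
  · rw [polar_add_left, polar_smul_left, polar_smul_left, smul_eq_mul, smul_eq_mul, polar_comm Q a' b,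
      polar_comm Q b' b]
    ring
  · apply RG_comb
    have : -(polar Q a b' * D⁻¹) * -(polar Q b a' * D⁻¹) - polar Q a a' * D⁻¹ * (polar Q b b' * D⁻¹) =
        -D⁻¹ := by
      have h3 : -(polar Q a b' * D⁻¹) * -(polar Q b a' * D⁻¹) - polar Q a a' * D⁻¹ * (polar Q b b' * D⁻¹) =
          -(D⁻¹ * D⁻¹ * (polar Q a a' * polar Q b b' - polar Q a b' * polar Q b a')) := by ring
      rw [h3, ← hD, mul_assoc, inv_mul_cancel₀ hD0, mul_one]
    rw [this]
    exact neg_ne_zero.2 (inv_ne_zero hD0)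

theorem four_opp {e₁ f₁ e₂ f₂ : V} (h : Four Q e₁ f₁ e₂ f₂) : Opp Q e₁ f₂ e₂ f₁ := by
  obtain ⟨p1, p2, p3, p4, p5, p6, p7, p8, p9, p10, p11, p12, p13, p14, p15, p16⟩ := h.pols
  refine ⟨⟨?_, h.h1.left, h.h2.right, h.ef⟩, ⟨?_, h.h2.left, h.h1.right, p14⟩, ?_⟩
  · intro a b hab
    have := h.indep (a := a) (b := 0) (c := 0) (d := b) (by rw [← hab]; module)
    exact ⟨this.1, this.2.2.2⟩
  · intro a b hab
    have := h.indep (a := 0) (b := b) (c := a) (d := 0) (by rw [← hab]; module)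
    exact ⟨this.2.2.1, this.2.1⟩
  · rw [p9, p5, p8]
    simp

/-! ### Transitivity -/

/-- **Witt's lemma in `E Q`, for families with a large complement.** -/
theorem exists_E_family' [Finite F] [FiniteDimensional F V] (hG : Good Q) {k : ℕ} (x y : Fin k → V)
    (hx : LinearIndependent F x) (hy : LinearIndependent F y) (hQ : ∀ i, Q (x i) = Q (y i))
    (hB : ∀ i j, polar Q (x i) (x j) = polar Q (y i) (y j))
    (hk : finrank F ↥(perp Q (Submodule.span F (Set.range x)) ⊓ Submodule.span F (Set.range x)) + k + 2 ≤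
      finrank F V) :
    ∃ g ∈ E Q, ∀ i, g (x i) = y i := by
  obtain ⟨g, hg, hgx⟩ := ClassicalGeometry.WittQuad.extend_family Q (nondegenerate_of_nondeg hG.nondeg) k x y
    hx hy hQ hB
  set U := Submodule.span F (Set.range x) with hU
  have hUk : finrank F U = k := by
    rw [hU, finrank_span_eq_card hx, Fintype.card_fin]
  have hd := finrank_perp hG.nondeg U
  have hY : ∀ c : F, c ≠ 0 → ∃ y ∈ perp Q U, Q y = c := by
    refine exists_value_mem ?_
    rw [perp_perp hG.nondeg]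
    omega
  obtain ⟨r, hr, hrE⟩ := exists_correct_univ hG hY (g := g) hg
  refine ⟨g * r, hrE, fun i => ?_⟩
  have h1 : r (x i) = x i := by
    refine refl_closure_fix hr fun y hy => ?_
    exact mem_perp'.1 hy _ (Submodule.subset_span ⟨i, rfl⟩)
  show g (r (x i)) = y i
  rw [h1, hgx]

theorem four_li {e₁ f₁ e₂ f₂ : V} (h : Four Q e₁ f₁ e₂ f₂) : LinearIndependent F ![e₁, f₁, e₂, f₂] := by
  rw [Fintype.linearIndependent_iff]
  intro g hg
  rw [Fin.sum_univ_four] at hg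
  obtain ⟨h0, h1, h2, h3⟩ := h.indep (a := g 0) (b := g 1) (c := g 2) (d := g 3) hg
  intro i
  fin_cases i
  · exact h0
  · exact h1
  · exact h2
  · exact h3

/-- the span of two orthogonal hyperbolic pairs is nondegenerate -/
theorem four_nondegOn {e₁ f₁ e₂ f₂ : V} (h : Four Q e₁ f₁ e₂ f₂) :
    NondegOn Q (Submodule.span F (Set.range ![e₁, f₁, e₂, f₂])) := by
  obtain ⟨p1, p2, p3, p4, p5, p6, p7, p8, p9, p10, p11, p12, p13, p14, p15, p16⟩ := h.pols
  intro v hv hv'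
  obtain ⟨c, rfl⟩ := (Submodule.mem_span_range_iff_exists_fun F).1 hv
  rw [Fin.sum_univ_four] at hv' ⊢
  simp only [Matrix.cons_val_zero, Matrix.cons_val_one, Matrix.cons_val_two, Matrix.cons_val_three,
    Matrix.head_cons, Matrix.tail_cons] at hv' ⊢
  have k1 := hv' f₁ (Submodule.subset_span ⟨1, rfl⟩)
  have k2 := hv' e₁ (Submodule.subset_span ⟨0, rfl⟩)
  have k3 := hv' f₂ (Submodule.subset_span ⟨3, rfl⟩)
  have k4 := hv' e₂ (Submodule.subset_span ⟨2, rfl⟩)
  simp only [polar_add_left, polar_smul_left, smul_eq_mul, p1, p2, p3, p4, p5, p6, p7, p8, p9, p10, p11, p12, p13,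
    p14, p15, p16, mul_zero, mul_one, add_zero, zero_add] at k1 k2 k3 k4
  rw [k1, k2, k3, k4]
  simp

/-- **`E Q` is transitive on pairs of orthogonal hyperbolic pairs.** -/
theorem four_trans [Finite F] [FiniteDimensional F V] (hG : Good Q) (hd : 6 ≤ finrank F V)
    {e₁ f₁ e₂ f₂ a₁ b₁ a₂ b₂ : V} (h : Four Q e₁ f₁ e₂ f₂) (h' : Four Q a₁ b₁ a₂ b₂) :
    ∃ g ∈ E Q, g e₁ = a₁ ∧ g f₁ = b₁ ∧ g e₂ = a₂ ∧ g f₂ = b₂ := by
  have hn := four_nondegOn h
  have h0 : perp Q (Submodule.span F (Set.range ![e₁, f₁, e₂, f₂])) ⊓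
      Submodule.span F (Set.range ![e₁, f₁, e₂, f₂]) = ⊥ := by
    rw [eq_bot_iff]
    intro v hv
    rw [Submodule.mem_bot]
    exact hn v hv.2 fun z hz => mem_perp'.1 hv.1 z hz
  obtain ⟨p1, p2, p3, p4, p5, p6, p7, p8, p9, p10, p11, p12, p13, p14, p15, p16⟩ := h.pols
  obtain ⟨q1, q2, q3, q4, q5, q6, q7, q8, q9, q10, q11, q12, q13, q14, q15, q16⟩ := h'.pols
  obtain ⟨g, hg, e⟩ := exists_E_family' hG ![e₁, f₁, e₂, f₂] ![a₁, b₁, a₂, b₂] (four_li h) (four_li h')
    (by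
      intro i
      fin_cases i
      · show Q e₁ = Q a₁
        rw [h.h1.left, h'.h1.left]
      · show Q f₁ = Q b₁
        rw [h.h1.right, h'.h1.right]
      · show Q e₂ = Q a₂
        rw [h.h2.left, h'.h2.left]
      · show Q f₂ = Q b₂
        rw [h.h2.right, h'.h2.right])
    (by
      intro i j
      fin_cases i <;> fin_cases j
      · exact p1.trans q1.symm
      · exact p5.trans q5.symm
      · exact p9.trans q9.symm
      · exact p11.trans q11.symm
      · exact p6.trans q6.symm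
      · exact p2.trans q2.symm
      · exact p13.trans q13.symm
      · exact p15.trans q15.symm
      · exact p10.trans q10.symm
      · exact p14.trans q14.symm
      · exact p3.trans q3.symm
      · exact p7.trans q7.symm
      · exact p12.trans q12.symm
      · exact p16.trans q16.symm
      · exact p8.trans q8.symm
      · exact p4.trans q4.symm)
    (by rw [h0, finrank_bot]; omega)
  exact ⟨g, hg, e 0, e 1, e 2, e 3⟩

/-- **`E Q` is transitive on opposite pairs of root groups.** -/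
theorem opp_trans [Finite F] [FiniteDimensional F V] (hG : Good Q) (hd : 6 ≤ finrank F V)
    {a b a' b' x y x' y' : V} (h : Opp Q a b a' b') (h' : Opp Q x y x' y') :
    ∃ g : ↥(E Q), cj g (RG Q a b) = RG Q x y ∧ cj g (RG Q a' b') = RG Q x' y' := by
  obtain ⟨f₁, e₂, h1, h2, -⟩ := h.four
  obtain ⟨f₁', e₂', h1', h2', -⟩ := h'.four
  obtain ⟨g, hg, e1, e2, e3, e4⟩ := four_trans hG hd h1 h1'
  refine ⟨⟨g, hg⟩, ?_, ?_⟩
  · rw [cj_RG, e1, e4]
  · rw [← h2, cj_RG, e2, e3, h2']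

/-- `E Q` is transitive on root groups -/
theorem RG_trans [Finite F] [FiniteDimensional F V] (hG : Good Q) (hd : 6 ≤ finrank F V)
    {a b x y : V} (h : TS2 Q a b) (h' : TS2 Q x y) : ∃ g : ↥(E Q), cj g (RG Q a b) = RG Q x y := by
  obtain ⟨g, hg, e1, e2⟩ := trans2 hG hd h h'
  exact ⟨⟨g, hg⟩, by rw [cj_RG, e1, e2]⟩

/-! ### One more conjugate -/

/-- **One more conjugate adds a root group opposite to a root group reached.** -/
theorem reach_root [Finite F] [FiniteDimensional F V] (hG : Good Q) (hd : 6 ≤ finrank F V) {M : Gam Q}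
    (hopp : ∃ u v, Opp Q u v (M.1 u) (M.1 v)) {k : ℕ} {J : Subgroup ↥(E Q)} {a b a' b' : V}
    (hJ : Reach (conjE Q M) k J) (ho : Opp Q a b a' b') (hle : RG Q a b ≤ J) :
    Reach (conjE Q M) (k + 1) (J ⊔ RG Q a' b') := by
  obtain ⟨u, v, huv⟩ := hopp
  obtain ⟨g, h1, h2⟩ := opp_trans hG hd huv ho
  have h3 := hJ.grow (J₀ := RG Q u v) (g := g) (by rw [h1]; exact hle)
  rwa [im_RG, h2] at h3

/-- the same for chains -/
theorem ch_root [Finite F] [FiniteDimensional F V] (hG : Good Q) (hd : 6 ≤ finrank F V) {u v u' v' : V}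
    (hopp : Opp Q u v u' v') {k : ℕ} {J : Subgroup ↥(E Q)} {a b a' b' : V}
    (hJ : Ch (RG Q u v) (RG Q u' v') k J) (ho : Opp Q a b a' b') (hle : RG Q a b ≤ J) :
    Ch (RG Q u v) (RG Q u' v') (k + 1) (J ⊔ RG Q a' b') := by
  obtain ⟨g, h1, h2⟩ := opp_trans hG hd hopp ho
  have h3 := Ch.step g hJ (by rw [h1]; exact hle)
  rwa [h2] at h3

/-! ### The `SL₂` of an opposite pair -/

theorem rhoE_range {e₁ f₁ e₂ f₂ : V} (h : Four Q e₁ f₁ e₂ f₂) : h.rhoE.range = RG Q e₁ f₂ ⊔ RG Q e₂ f₁ := by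
  apply le_antisymm
  · rw [MonoidHom.range_eq_map, Subgroup.map_le_iff_le_comap, top_le_iff]
    apply eq_top_of_u_mem_of_l_mem
    · intro t
      rw [Subgroup.mem_comap]
      refine Subgroup.mem_sup_left (mem_RG (-t) fun v => ?_)
      rw [h.coe_rhoE, h.rho_u]
    · intro t
      rw [Subgroup.mem_comap]
      refine Subgroup.mem_sup_right (mem_RG (-t) fun v => ?_)
      rw [h.coe_rhoE, h.rho_l]
  · refine sup_le (RG_le fun g t hg => ⟨u (-t), ?_⟩) (RG_le fun g t hg => ⟨l (-t), ?_⟩)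
    · apply Subtype.ext
      ext v
      rw [h.coe_rhoE, h.rho_u, hg, neg_neg]
    · apply Subtype.ext
      ext v
      rw [h.coe_rhoE, h.rho_l, hg, neg_neg]

/-- **The data of `SL2W`.** -/
theorem exists_psi {M : Gam Q} {σ : F ≃+* F} {c : F} (hM : IsSS Q σ c M.1) {x y : V}
    (h : Opp Q x y (M.1 x) (M.1 y)) :
    ∃ (f₁ e₂ : V) (h4 : Four Q x f₁ e₂ y), RG Q e₂ f₁ = RG Q (M.1 x) (M.1 y) ∧
      ∀ t, conjE Q M (h4.rhoE (u t)) = h4.rhoE (l (-(DD Q M.1 x y * c⁻¹) * σ t)) := by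
  obtain ⟨f₁, e₂, h4, h5, he, hf⟩ := h.four
  refine ⟨f₁, e₂, h4, h5, fun t => ?_⟩
  have hD0 : DD Q M.1 x y ≠ 0 := h.det
  change e₂ = (-(polar Q x (M.1 y) * (DD Q M.1 x y)⁻¹)) • M.1 x +
        (polar Q x (M.1 x) * (DD Q M.1 x y)⁻¹) • M.1 y at he
  change f₁ = (polar Q y (M.1 y) * (DD Q M.1 x y)⁻¹) • M.1 x +
        (-(polar Q y (M.1 x) * (DD Q M.1 x y)⁻¹)) • M.1 y at hf
  apply Subtype.ext
  ext v
  have h1 : ((conjE Q M (h4.rhoE (u t)) : ↥(E Q)) : V ≃ₗ[F] V) v = M.1 (h4.rho (u t) (M.1⁻¹ v)) := rfl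
  rw [h1, h4.rho_u, Cfsg.Agent.UGT.U2.FOne.Orth.IsSS.map_tl hM, hM.smul, apply_inv, h4.coe_rhoE, h4.rho_l, he, hf,
    tl_comb', map_neg, smul_smul]
  congr 2
  have h2 : -(polar Q x (M.1 y) * (DD Q M.1 x y)⁻¹) * -(polar Q y (M.1 x) * (DD Q M.1 x y)⁻¹) -
      polar Q x (M.1 x) * (DD Q M.1 x y)⁻¹ * (polar Q y (M.1 y) * (DD Q M.1 x y)⁻¹) = -(DD Q M.1 x y)⁻¹ := by
    obtain ⟨i, hi⟩ : ∃ i, i = (DD Q M.1 x y)⁻¹ := ⟨_, rfl⟩
    have h3 : i * DD Q M.1 x y = 1 := by rw [hi, inv_mul_cancel₀ hD0]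
    rw [← hi]
    rw [DD] at h3
    linear_combination (-i) * h3
  rw [h2]
  field_simp

end Cfsg.Agent.H445.Gs
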