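import Cfsg.Agent.H915.Gs.WMain
import Cfsg.Agent.H445.Gs.ExcCore

/-!
# Few conjugates of a transvection generate `SL(2,q)` (S4327, helper445)

* `tg : TG F` for every finite field.
-/

set_option autoImplicit false

namespace Cfsg.Agent.H445.Gs.Exc.Gen

open Matrix Cfsg.Agent.LieClassical.SLTwoUnipotent Cfsg.Agent.H390.PslSpec Cfsg.Agent.ClassicalGeometry
  Cfsg.Agent.H915.Gs

variable {F : Type*} [Field F]

/-! ### conjugates of `u c` -/

theorem conj_u {c : F} {a : F} (ha : a ≠ 0) : ∃ g : SpecialLinearGroup (Fin 2) F, g * u c * g⁻¹ = u (a ^ 2 * c) := by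
  refine ⟨Lib.SL2Mat.dg a ha, ?_⟩
  change Lib.SL2Mat.dg a ha * Lib.SL2Mat.up c * (Lib.SL2Mat.dg a ha)⁻¹ = Lib.SL2Mat.up (a ^ 2 * c)
  rw [Lib.SL2Mat.dg_up, mul_inv_cancel_right]

theorem conj_l {c : F} {a : F} (ha : a ≠ 0) :
    ∃ g : SpecialLinearGroup (Fin 2) F, g * u c * g⁻¹ = l (-(c / a ^ 2)) := by
  refine ⟨Lib.SL2Mat.wm a ha, ?_⟩
  change Lib.SL2Mat.wm a ha * Lib.SL2Mat.up c * (Lib.SL2Mat.wm a ha)⁻¹ = Lib.SL2Mat.lo (-(c / a ^ 2))
  rw [Lib.SL2Mat.wm_up, mul_inv_cancel_right]

theorem choose_gen {t : F} {N : ℕ} (x : Fin N → SpecialLinearGroup (Fin 2) F)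
    (hx : ∀ i, x i = 1 ∨ ∃ g : SpecialLinearGroup (Fin 2) F, g * u t * g⁻¹ = x i)
    (h : Subgroup.closure (Set.range x) = ⊤) :
    ∃ g : Fin N → SpecialLinearGroup (Fin 2) F, Subgroup.closure (Set.range fun i => g i * u t * (g i)⁻¹) = ⊤ := by
  have h1 : ∀ i, ∃ g : SpecialLinearGroup (Fin 2) F, x i = 1 ∨ g * u t * g⁻¹ = x i := by
    intro i
    rcases hx i with h | ⟨g, h⟩
    · exact ⟨1, Or.inl h⟩
    · exact ⟨g, Or.inr h⟩
  choose g hg using h1
  refine ⟨g, ?_⟩
  rw [← top_le_iff, ← h, Subgroup.closure_le]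
  rintro _ ⟨i, rfl⟩
  rcases hg i with h2 | h2
  · rw [h2]
    exact one_mem _
  · exact Subgroup.subset_closure ⟨i, h2⟩

/-- all `u x` and one `l y` -/
theorem eq_top_of {J : Subgroup (SpecialLinearGroup (Fin 2) F)} (hu : ∀ x, u x ∈ J) {y : F} (hy : y ≠ 0)
    (hl : l y ∈ J) : J = ⊤ := by
  refine eq_top_of_u_mem_of_l_mem J hu fun x => ?_
  -- `n = u (-1/y) l y u (-1/y)` conjugates `u` to `l`
  have hb : (-y⁻¹ : F) ≠ 0 := neg_ne_zero.2 (inv_ne_zero hy)
  have hn : Lib.SL2Mat.wm (-y⁻¹) hb ∈ J := by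
    have e := H164.Gs.HG.wm_of_lo y hy
    have e' : Lib.SL2Mat.wm (-y⁻¹) hb = u (-y⁻¹) * l y * u (-y⁻¹) := e.symm
    rw [e']
    exact mul_mem (mul_mem (hu _) hl) (hu _)
  have h1 := Lib.SL2Mat.wm_up (-y⁻¹) (-(x * (-y⁻¹) ^ 2)) hb
  have h2 : -(-(x * (-y⁻¹) ^ 2) / (-y⁻¹) ^ 2) = x := by
    rw [neg_div, neg_neg, mul_div_cancel_right₀ _ (pow_ne_zero 2 hb)]
  rw [h2] at h1
  have h3 : l x = Lib.SL2Mat.wm (-y⁻¹) hb * u (-(x * (-y⁻¹) ^ 2)) * (Lib.SL2Mat.wm (-y⁻¹) hb)⁻¹ := by
    change Lib.SL2Mat.lo x = Lib.SL2Mat.wm (-y⁻¹) hb * Lib.SL2Mat.up (-(x * (-y⁻¹) ^ 2)) * (Lib.SL2Mat.wm (-y⁻¹) hb)⁻¹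
    rw [h1, mul_inv_cancel_right]
  rw [h3]
  exact mul_mem (mul_mem hn (hu _)) (inv_mem hn)

/-- the additive subgroup of the `x` with `u x ∈ J` -/
def addU (J : Subgroup (SpecialLinearGroup (Fin 2) F)) : AddSubgroup F where
  carrier := {x | u x ∈ J}
  add_mem' := by
    intro a b ha hb
    change u (a + b) ∈ J
    rw [u_add]
    exact mul_mem ha hb
  zero_mem' := by
    change u 0 ∈ J
    rw [u_zero]
    exact one_mem _
  neg_mem' := by
    intro a ha
    change u (-a) ∈ J
    rw [u_neg]
    exact inv_mem ha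

section

variable [Fintype F]

/-- `q` prime -/
theorem prime_case {p : ℕ} (hp : p.Prime) (h : Fintype.card F = p) {J : Subgroup (SpecialLinearGroup (Fin 2) F)} {c : F}
    (hc : c ≠ 0) (hu : u c ∈ J) {y : F} (hy : y ≠ 0) (hl : l y ∈ J) : J = ⊤ := by
  refine eq_top_of (fun x => ?_) hy hl
  have h1 : Nat.card (addU J) ∣ p := by
    rw [← h, ← Nat.card_eq_fintype_card]
    exact AddSubgroup.card_addSubgroup_dvd_card _
  have h2 : (addU J : AddSubgroup F) = ⊤ := by
    rcases (Nat.dvd_prime hp).1 h1 with h2 | h2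
    · exfalso
      rw [AddSubgroup.card_eq_one] at h2
      have h3 : c ∈ addU J := hu
      rw [h2, AddSubgroup.mem_bot] at h3
      exact hc h3
    · apply AddSubgroup.eq_top_of_card_eq
      rw [h2, Nat.card_eq_fintype_card, h]
  have h3 : x ∈ addU J := by rw [h2]; exact AddSubgroup.mem_top x
  exact h3

/-- `q = 9` -/
theorem nine_case (h : Fintype.card F = 9) : ∃ b : F, b ≠ 0 ∧
    ∀ (J : Subgroup (SpecialLinearGroup (Fin 2) F)) (c : F), c ≠ 0 → u c ∈ J → u (b ^ 2 * c) ∈ J → ∀ y : F, y ≠ 0 →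
      l y ∈ J → J = ⊤ := by
  classical
  obtain ⟨g, hg⟩ := IsCyclic.exists_generator (α := Fˣ)
  have hord : orderOf (g : F) = 8 := by
    rw [orderOf_units, orderOf_eq_card_of_forall_mem_zpowers hg, Nat.card_eq_fintype_card, Fintype.card_units, h]
  have hg0 : (g : F) ≠ 0 := g.ne_zero
  have h4 : (g : F) ^ 4 ≠ 1 := by
    intro h1
    have := orderOf_dvd_of_pow_eq_one h1
    rw [hord] at this
    exact absurd (Nat.le_of_dvd (by norm_num) this) (by norm_num)
  have h20 : (2 : F) ≠ 0 := by
    intro h2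
    have h3 : ((Fintype.card F : ℕ) : F) = 0 := Nat.cast_card_eq_zero F
    rw [h] at h3
    have h5 : (1 : F) = 0 := by
      have : ((9 : ℕ) : F) = 2 * 4 + 1 := by norm_num
      rw [this, h2, zero_mul, zero_add] at h3
      exact h3
    exact one_ne_zero h5
  refine ⟨g, hg0, fun J c hc hu hu2 y hy hl => eq_top_of (fun x => ?_) hy hl⟩
  have h1 : Nat.card (addU J) ∣ 3 ^ 2 := by
    have h9 : (3 ^ 2 : ℕ) = Nat.card F := by rw [Nat.card_eq_fintype_card, h]; norm_num
    rw [h9]
    exact AddSubgroup.card_addSubgroup_dvd_card _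
  have hS : ({0, c, -c, (g : F) ^ 2 * c} : Finset F).card = 4 := by
    have e1 : (g : F) ^ 2 * c ≠ 0 := mul_ne_zero (pow_ne_zero 2 hg0) hc
    have e2 : c ≠ -c := by
      intro h2
      have h3 : 2 * c = 0 := by linear_combination h2
      rcases mul_eq_zero.1 h3 with h3 | h3
      · exact h20 h3
      · exact hc h3
    have e3 : (g : F) ^ 2 * c ≠ c := by
      intro h2
      apply h4
      have h3 : (g : F) ^ 2 = 1 := by
        have := mul_right_cancel₀ hc (h2.trans (one_mul c).symm)
        exact this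
      calc (g : F) ^ 4 = ((g : F) ^ 2) ^ 2 := by ring
        _ = 1 := by rw [h3]; ring
    have e4 : (g : F) ^ 2 * c ≠ -c := by
      intro h2
      apply h4
      have h3 : (g : F) ^ 2 = -1 := by
        have h5 : (g : F) ^ 2 * c = -1 * c := by rw [h2]; ring
        exact mul_right_cancel₀ hc h5
      calc (g : F) ^ 4 = ((g : F) ^ 2) ^ 2 := by ring
        _ = 1 := by rw [h3]; ring
    rw [Finset.card_insert_of_notMem, Finset.card_insert_of_notMem, Finset.card_insert_of_notMem,
      Finset.card_singleton]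
    · simp only [Finset.mem_singleton]; exact e4.symm
    · simp only [Finset.mem_insert, Finset.mem_singleton, not_or]
      exact ⟨e2, e3.symm⟩
    · simp only [Finset.mem_insert, Finset.mem_singleton, not_or]
      exact ⟨hc.symm, (neg_ne_zero.2 hc).symm, e1.symm⟩
  have h5 : 4 ≤ Nat.card (addU J) := by
    rw [← hS, ← Set.ncard_coe_finset]
    apply Set.ncard_le_ncard (t := (addU J : Set F)) ?_ (Set.toFinite _)
    intro x hx
    simp only [Finset.coe_insert, Finset.coe_singleton, Set.mem_insert_iff, Set.mem_singleton_iff] at hx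
    rcases hx with rfl | rfl | rfl | rfl
    · exact (addU J).zero_mem
    · exact hu
    · exact (addU J).neg_mem hu
    · exact hu2
  have h2 : (addU J : AddSubgroup F) = ⊤ := by
    apply AddSubgroup.eq_top_of_card_eq
    rw [Nat.card_eq_fintype_card (α := F), h]
    obtain ⟨k, hk, e⟩ := (Nat.dvd_prime_pow Nat.prime_three).1 h1
    rw [e] at h5 ⊢
    interval_cases k
    · omega
    · omega
    · norm_num
  have h3 : x ∈ addU J := by rw [h2]; exact AddSubgroup.mem_top x
  exact h3

/-- `q ≥ 13` odd -/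
theorem odd_case (h13 : 13 ≤ Fintype.card F) (hodd : Odd (Fintype.card F)) {c : F} (hc : c ≠ 0) :
    ∃ a : F, a ≠ 0 ∧ ∀ J : Subgroup (SpecialLinearGroup (Fin 2) F), u c ∈ J → l (-(c / a ^ 2)) ∈ J → J = ⊤ := by
  classical
  obtain ⟨p, hcp⟩ := CharP.exists F
  have hp : p.Prime := CharP.char_is_prime F p
  have : Fact p.Prime := ⟨hp⟩
  set q := Fintype.card F with hqdef
  have hdd : dd q ∣ q + 1 := dd_dvd_add (by omega)
  have h2 : (2 : F) ≠ 0 := by
    intro h
    have h3 : ((2 : ℕ) : F) = 0 := by exact_mod_cast h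
    have hp2 : p = 2 := (Nat.prime_dvd_prime_iff_eq hp Nat.prime_two).1 ((CharP.cast_eq_zero_iff F p 2).1 h3)
    obtain ⟨f, -, hf⟩ := FiniteField.card F p
    rw [← hqdef, hp2] at hf
    rw [hf] at hodd
    exact (Nat.not_even_iff_odd.2 hodd) (even_iff_two_dvd.2 (dvd_pow_self 2 f.2.ne'))
  have hd2 : dd q = 2 := dd_odd hodd
  have key : ∀ (a : F) (v : AlgebraicClosure F) (M : ℕ), (M = q + 1 ∨ (M = q - 1 ∧ ¬ IsSquare (-1 : F))) →
      orderOf v = M → algebraMap F (AlgebraicClosure F) (2 + -a ^ 2) = v + v⁻¹ →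
      ∃ a : F, a ≠ 0 ∧ ∀ J : Subgroup (SpecialLinearGroup (Fin 2) F), u c ∈ J → l (-(c / a ^ 2)) ∈ J → J = ⊤ := by
    intro a v M hM hv hm
    have h12 : 12 ≤ M := by rcases hM with h | ⟨h, -⟩ <;> omega
    have ha : a ≠ 0 := by
      rintro rfl
      have h3 : v + v⁻¹ = 2 := by
        rw [← hm, zero_pow two_ne_zero, neg_zero, add_zero, map_ofNat]
      have hv0 : v ≠ 0 := ne_zero_of_orderOf (by omega)
      have h5 : (v - 1) ^ 2 = 0 := by
        have : v * v⁻¹ = 1 := mul_inv_cancel₀ hv0
        linear_combination v * h3 - this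
      have h6 : v = 1 := sub_eq_zero.1 (pow_eq_zero_iff (two_ne_zero)|>.1 h5)
      rw [h6, orderOf_one] at hv
      omega
    have hdM : dd q ∣ M := by
      rcases hM with h | ⟨h, -⟩
      · rw [h]; exact hdd
      · rw [h]; exact dd_dvd_sub _
    obtain ⟨e, he⟩ : ∃ e : F, e = -a ^ 2 / c ^ 2 := ⟨_, rfl⟩
    have hec : e * (c * c) = -a ^ 2 := by
      rw [he]
      field_simp
    have he0 : e ≠ 0 := by
      rintro rfl
      rw [zero_mul] at hec
      have h3 : a ^ 2 = 0 := by linear_combination hec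
      exact ha (pow_eq_zero_iff two_ne_zero |>.1 h3)
    have hk : orderOf (pr F (w e (RingEquiv.refl F) c)) = M / dd q := by
      apply orderOf_of_trace (p := p) (by omega) hdM hv
      rw [tr_w, RingEquiv.refl_apply, hec, hm]
    have hgen : Subgroup.closure {w e (RingEquiv.refl F) c, u c} = ⊤ := by
      apply gen_of (p := p) (by omega) hk
      · left
        rw [hd2]
        omega
      · intro h
        have h0 := congrArg (fun g : SpecialLinearGroup (Fin 2) F => (g : Matrix (Fin 2) (Fin 2) F)) h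
        simp only [coe_mul, coe_w, coe_u] at h0
        have h1 := congrFun (congrFun h0 0) 0
        simp [Matrix.mul_apply, Fin.sum_univ_two] at h1
        rcases h1 with h1 | h1 | h1
        · exact hc h1
        · exact he0 h1
        · exact hc h1
      · intro h
        rw [← map_pow, u_pow, pr_eq_one_iff] at h
        rcases h with h | h
        · have h1 := congrFun (congrFun h 0) 1
          rw [coe_u] at h1
          simp at h1
          rcases h1 with h1 | h1
          · exact h2 h1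
          · exact hc h1
        · have h1 := congrFun (congrFun h 0) 1
          rw [coe_u] at h1
          simp at h1
          rcases h1 with h1 | h1
          · exact h2 h1
          · exact hc h1
      · have htr : H390.PslSpec.tr ((w e (RingEquiv.refl F) c * u c * (w e (RingEquiv.refl F) c)⁻¹ * (u c)⁻¹ :
            SpecialLinearGroup (Fin 2) F) : Matrix (Fin 2) (Fin 2) F) = 2 + (e * (c * c)) ^ 2 := by
          rw [← u_neg, H390.PslSpec.tr]
          simp only [coe_mul, coe_w_inv, coe_w, coe_u]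
          simp [Matrix.mul_apply, Fin.sum_univ_two]
          ring
        rcases hM with h | ⟨h, hns⟩
        · left; rw [h]
        · right
          refine ⟨by rw [h], hodd, ?_, ?_⟩
          · rw [htr, hec]
            intro h3
            have h5 : a ^ 4 = 0 := by linear_combination h3
            exact ha (pow_eq_zero_iff (by norm_num) |>.1 h5)
          · rw [htr, hec]
            intro h3
            apply hns
            refine ⟨a ^ 2 / 2, ?_⟩
            have h5 : a ^ 4 = -4 := by linear_combination h3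
            field_simp
            linear_combination -h5
    refine ⟨c / a, div_ne_zero hc ha, fun J hu hl => ?_⟩
    rw [← top_le_iff, ← hgen, Subgroup.closure_le]
    have h5 : e * c = -(c / (c / a) ^ 2) := by
      rw [he]
      field_simp
    rintro x (rfl | rfl)
    · change w e (RingEquiv.refl F) c ∈ J
      rw [w, RingEquiv.refl_apply, h5]
      exact mul_mem hu hl
    · exact hu
  by_cases hsq : IsSquare (-1 : F)
  · obtain ⟨i, hi⟩ := hsq
    obtain ⟨m, v, hv, hm⟩ := exists_nonsplit (F := F) (p := p) (by omega)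
    refine key (i * m) v (q + 1) (Or.inl rfl) hv ?_
    rw [← hm]
    congr 2
    linear_combination m ^ 2 * hi
  · obtain ⟨r, v, hv, hm⟩ := exists_split (F := F) (by omega) h2 hsq
    refine key r v (q - 1) (Or.inr ⟨rfl, hsq⟩) hv ?_
    rw [← hm]
    congr 2
    ring

/-- `q ≥ 4` even -/
theorem even_case (h4 : 4 ≤ Fintype.card F) (he : Even (Fintype.card F)) :
    ∃ s t : F, ∀ J : Subgroup (SpecialLinearGroup (Fin 2) F), u s ∈ J → l s ∈ J → u t ∈ J → l t ∈ J → J = ⊤ := by
  obtain ⟨s, t, h⟩ := w_gen h4 (e := (1 : F)) one_ne_zero (RingEquiv.refl F) (n := 1) odd_one (by rw [pow_one]; rfl)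
    (Or.inl he)
  refine ⟨s, t, fun J h1 h2 h3 h5 => ?_⟩
  rw [← top_le_iff, ← h, Subgroup.closure_le]
  rintro x (rfl | rfl)
  · change w 1 (RingEquiv.refl F) s ∈ J
    rw [w, RingEquiv.refl_apply, one_mul]
    exact mul_mem h1 h2
  · change w 1 (RingEquiv.refl F) t ∈ J
    rw [w, RingEquiv.refl_apply, one_mul]
    exact mul_mem h3 h5

/-- characteristic 2: all transvections are conjugate -/
theorem conj_even (h2 : (2 : F) = 0) {c : F} (hc : c ≠ 0) (s : F) :
    (u s = 1 ∨ ∃ g : SpecialLinearGroup (Fin 2) F, g * u c * g⁻¹ = u s) ∧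
      (l s = 1 ∨ ∃ g : SpecialLinearGroup (Fin 2) F, g * u c * g⁻¹ = l s) := by
  by_cases hs : s = 0
  · rw [hs]
    exact ⟨Or.inl u_zero, Or.inl l_zero⟩
  have hr : ringChar F = 2 := by
    have : CharP F 2 := CharTwo.of_one_ne_zero_of_two_eq_zero one_ne_zero h2
    exact ringChar.eq F 2 |>.symm ▸ rfl
  have hneg : ∀ x : F, -x = x := fun x => by linear_combination -x * h2
  obtain ⟨b, hb⟩ := FiniteField.isSquare_of_char_two hr (s / c)
  have hb0 : b ≠ 0 := by
    rintro rfl
    rw [mul_zero] at hb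
    exact (div_ne_zero hs hc) hb
  constructor
  · right
    obtain ⟨g, hg⟩ := conj_u (c := c) hb0
    refine ⟨g, ?_⟩
    rw [hg]
    congr 1
    rw [sq, ← hb, div_mul_cancel₀ _ hc]
  · right
    obtain ⟨g, hg⟩ := conj_l (c := c) (inv_ne_zero hb0)
    refine ⟨g, ?_⟩
    rw [hg, hneg]
    congr 1
    rw [inv_pow, div_inv_eq_mul, sq, ← hb, mul_div_cancel₀ _ hc]

/-- **Few conjugates of a transvection generate.** -/
theorem tg' : TG F := by
  classical
  intro c hc
  by_cases h2 : (2 : F) = 0
  · by_cases h4 : 4 ≤ Fintype.card F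
    · have he : Even (Fintype.card F) := by
        by_contra hodd
        rw [Nat.not_even_iff_odd] at hodd
        have h3 : ((Fintype.card F : ℕ) : F) = 0 := Nat.cast_card_eq_zero F
        obtain ⟨k, hk⟩ := hodd
        rw [hk] at h3
        push_cast at h3
        rw [h2, zero_mul, zero_add] at h3
        exact one_ne_zero h3
      obtain ⟨s, t, h⟩ := even_case h4 he
      obtain ⟨g, hg⟩ := choose_gen (t := c) (![u s, l s, u t, l t]) (by
        intro i
        fin_cases i
        · exact (conj_even h2 hc s).1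
        · exact (conj_even h2 hc s).2
        · exact (conj_even h2 hc t).1
        · exact (conj_even h2 hc t).2)
        (h _ (Subgroup.subset_closure ⟨0, rfl⟩) (Subgroup.subset_closure ⟨1, rfl⟩)
          (Subgroup.subset_closure ⟨2, rfl⟩) (Subgroup.subset_closure ⟨3, rfl⟩))
      refine ⟨4, g, hg, fun _ => le_rfl, fun h => absurd h2 h, fun h => ?_⟩
      rw [Nat.card_eq_fintype_card] at h
      omega
    · have hq2 : Fintype.card F = 2 := by
        have h3 : ((Fintype.card F : ℕ) : F) = 0 := Nat.cast_card_eq_zero F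
        have h5 : 1 < Fintype.card F := Fintype.one_lt_card
        have h6 : Fintype.card F = 2 ∨ Fintype.card F = 3 := by omega
        rcases h6 with h6 | h6
        · exact h6
        · exfalso
          rw [h6] at h3
          have h7 : ((3 : ℕ) : F) = 2 + 1 := by norm_num
          rw [h7, h2, zero_add] at h3
          exact one_ne_zero h3
      obtain ⟨g, hg⟩ := choose_gen (t := c) (![u 1, l 1]) (by
        intro i
        fin_cases i
        · exact (conj_even h2 hc 1).1
        · exact (conj_even h2 hc 1).2)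
        (prime_case Nat.prime_two hq2 one_ne_zero (Subgroup.subset_closure ⟨0, rfl⟩) one_ne_zero
          (Subgroup.subset_closure ⟨1, rfl⟩))
      exact ⟨2, g, hg, fun _ => by norm_num, fun h => absurd h2 h, fun _ => le_rfl⟩
  · have hodd : Odd (Fintype.card F) := by
      rw [← Nat.not_even_iff_odd]
      intro he
      obtain ⟨p, hcp⟩ := CharP.exists F
      have : Fact p.Prime := ⟨CharP.char_is_prime F p⟩
      exact h2 (two_eq_zero_of_even (p := p) he)
    have hcard : Nat.card F ≠ 2 := by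
      rw [Nat.card_eq_fintype_card]
      rintro h
      rw [h] at hodd
      exact absurd hodd (by decide)
    have hself : ∃ g : SpecialLinearGroup (Fin 2) F, g * u c * g⁻¹ = u c := ⟨1, by simp⟩
    have two : ∀ a : F, a ≠ 0 → (∀ J : Subgroup (SpecialLinearGroup (Fin 2) F), u c ∈ J → l (-(c / a ^ 2)) ∈ J →
        J = ⊤) → ∃ (N : ℕ) (g : Fin N → SpecialLinearGroup (Fin 2) F),
        Subgroup.closure (Set.range fun i => g i * LieClassical.SLTwoUnipotent.u c * (g i)⁻¹) = ⊤ ∧
          ((2 : F) = 0 → N ≤ 4) ∧ ((2 : F) ≠ 0 → N ≤ 3) ∧ (Nat.card F = 2 → N ≤ 2) := by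
      intro a ha h
      obtain ⟨g, hg⟩ := choose_gen (t := c) (![u c, l (-(c / a ^ 2))]) (by
        intro i
        fin_cases i
        · exact Or.inr hself
        · exact Or.inr (conj_l ha))
        (h _ (Subgroup.subset_closure ⟨0, rfl⟩) (Subgroup.subset_closure ⟨1, rfl⟩))
      exact ⟨2, g, hg, fun _ => by norm_num, fun _ => by norm_num, fun _ => le_rfl⟩
    by_cases h13 : 13 ≤ Fintype.card F
    · obtain ⟨a, ha, h⟩ := odd_case h13 hodd hc
      exact two a ha h
    · by_cases h9 : Fintype.card F = 9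
      · obtain ⟨b, hb, h⟩ := nine_case h9
        obtain ⟨g, hg⟩ := choose_gen (t := c) (![u c, u (b ^ 2 * c), l (-(c / 1 ^ 2))]) (by
          intro i
          fin_cases i
          · exact Or.inr hself
          · exact Or.inr (conj_u hb)
          · exact Or.inr (conj_l one_ne_zero))
          (h _ c hc (Subgroup.subset_closure ⟨0, rfl⟩) (Subgroup.subset_closure ⟨1, rfl⟩) (-(c / 1 ^ 2))
            (neg_ne_zero.2 (div_ne_zero hc (by norm_num))) (Subgroup.subset_closure ⟨2, rfl⟩))
        exact ⟨3, g, hg, fun _ => by norm_num, fun _ => le_rfl, fun h => absurd h hcard⟩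
      · have hpr : (Fintype.card F).Prime := by
          have h1 : 1 < Fintype.card F := Fintype.one_lt_card
          obtain ⟨k, hk⟩ := hodd
          have h3 : k < 6 := by omega
          interval_cases k
          · omega
          · rw [hk]; norm_num
          · rw [hk]; norm_num
          · rw [hk]; norm_num
          · omega
          · rw [hk]; norm_num
        exact two 1 one_ne_zero fun J hu hl => prime_case hpr rfl hc hu
          (neg_ne_zero.2 (div_ne_zero hc (by norm_num))) hl

end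

end Cfsg.Agent.H445.Gs.Exc.Gen

namespace Cfsg.Agent.H445.Gs.Exc

/-- **Few conjugates of a transvection generate `SL(2,F)`.** -/
theorem tg (F : Type*) [Field F] [Finite F] : TG F := by
  have := Fintype.ofFinite F
  exact Gen.tg'

end Cfsg.Agent.H445.Gs.Exc
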